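import Cfsg.Agent.Lib.Characters.Counting
import Cfsg.Agent.Lib.Characters.Normal
import Cfsg.Agent.S0173

/-!
# Constituents of characters, and characters fixed by automorphisms
-/

namespace Cfsg.Agent.OddChar.Constituent

open Cfsg.Agent.Characters
open scoped ComplexConjugate

universe u

variable {G : Type u} [Group G]

theorem eq_of_re_eq [Finite G] {χ : G → ℂ} (h : Cfsg.IsCharacter G χ) {g : G}
    (hg : (χ g).re = (χ 1).re) : χ g = χ 1 := by
  obtain ⟨n, hn⟩ := char_one_nat h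
  have h6 : ‖χ g‖ ≤ (n : ℝ) := (char_norm_le h g).trans (by simp [hn])
  rw [hn, Complex.natCast_re] at hg
  rw [hn]
  refine Complex.ext (by simpa using hg) ?_
  have h7 := Complex.sq_norm_sub_sq_re (χ g)
  rw [hg] at h7
  have h8 : ‖χ g‖ ^ 2 ≤ (n : ℝ) ^ 2 := by gcongr
  have : (χ g).im ^ 2 = 0 := le_antisymm (by linarith) (sq_nonneg _)
  simpa using (pow_eq_zero_iff two_ne_zero).1 this

variable [Fintype G]

/-- A constituent is trivial wherever the character is. -/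
theorem constituent_apply_eq_one {ξ θ : G → ℂ} (hξ : Cfsg.IsCharacter G ξ)
    (hθ : Cfsg.IsIrrCharacter G θ) (hne : Cfsg.classInner ξ θ ≠ 0) {g : G} (hg : ξ g = ξ 1) :
    θ g = θ 1 := by
  classical
  haveI := Fintype.ofFinite (Cfsg.IrrCharacter G)
  obtain ⟨m, hm⟩ := char_eq_sum_nat hξ
  rw [hm] at hg hne
  rw [classInner_sum_smul_irr (c := fun ψ : Cfsg.IrrCharacter G => (m ψ : ℂ)) Finset.univ ⟨θ, hθ⟩,
    if_pos (Finset.mem_univ _), Nat.cast_ne_zero] at hne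
  have hre := congrArg Complex.re hg
  simp only [Finset.sum_apply, Pi.smul_apply, smul_eq_mul, Complex.re_sum, Complex.mul_re,
    Complex.natCast_re, Complex.natCast_im, zero_mul, sub_zero] at hre
  have hle : ∀ ψ ∈ (Finset.univ : Finset (Cfsg.IrrCharacter G)),
      (m ψ : ℝ) * ((ψ : G → ℂ) g).re ≤ (m ψ : ℝ) * ((ψ : G → ℂ) 1).re := by
    intro ψ _
    refine mul_le_mul_of_nonneg_left ?_ (Nat.cast_nonneg _)
    obtain ⟨n, hn⟩ := char_one_nat (irr_isCharacter ψ)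
    exact ((Complex.re_le_norm _).trans (char_norm_le (irr_isCharacter ψ) g)).trans (by simp [hn])
  have h1 := (Finset.sum_eq_sum_iff_of_le hle).1 hre ⟨θ, hθ⟩ (Finset.mem_univ _)
  exact eq_of_re_eq (isCharacter_of_isIrr hθ) (mul_left_cancel₀ (Nat.cast_ne_zero.2 hne) h1)

/-- A character nontrivial at `g` has a constituent nontrivial at `g`. -/
theorem exists_constituent_ne {ξ : G → ℂ} (hξ : Cfsg.IsCharacter G ξ) {g : G} (hg : ξ g ≠ ξ 1) :
    ∃ θ : G → ℂ, Cfsg.IsIrrCharacter G θ ∧ Cfsg.classInner ξ θ ≠ 0 ∧ θ g ≠ θ 1 := by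
  haveI := Fintype.ofFinite (Cfsg.IrrCharacter G)
  by_contra hcon
  push Not at hcon
  apply hg
  rw [classFun_eq_sum (char_isClassFunction hξ)]
  simp only [Finset.sum_apply, Pi.smul_apply, smul_eq_mul]
  refine Finset.sum_congr rfl fun ψ _ => ?_
  by_cases h : Cfsg.classInner ξ (ψ : G → ℂ) = 0
  · simp [h]
  · rw [hcon _ ψ.2 h]

/-- A nonzero character has a constituent. -/
theorem exists_constituent {ξ : G → ℂ} (hξ : Cfsg.IsCharacter G ξ) (h1 : ξ 1 ≠ 0) :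
    ∃ θ : G → ℂ, Cfsg.IsIrrCharacter G θ ∧ Cfsg.classInner ξ θ ≠ 0 := by
  haveI := Fintype.ofFinite (Cfsg.IrrCharacter G)
  by_contra hcon
  push Not at hcon
  apply h1
  rw [classFun_eq_sum (char_isClassFunction hξ)]
  simp [hcon, fun ψ : Cfsg.IrrCharacter G => hcon _ ψ.2]

omit [Fintype G] in
/-- An automorphism fixes a nonprincipal irreducible character iff it fixes a nontrivial class. -/
theorem exists_fixed_irr_iff [Finite G] (α : G ≃* G) :
    (∃ θ : G → ℂ, Cfsg.IsIrrCharacter G θ ∧ θ ≠ (fun _ => 1) ∧ θ ∘ α = θ) ↔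
      ∃ g : G, g ≠ 1 ∧ IsConj (α g) g := by
  classical
  have h := Cfsg.Agent.S0173.result α
  set P := fun C : ConjClasses G => ConjClasses.map α.toMonoidHom C = C
  set Q := fun χ : Cfsg.IrrCharacter G => (χ : G → ℂ) ∘ α = (χ : G → ℂ)
  have hP1 : P (ConjClasses.mk 1) := by
    show ConjClasses.mk (α 1) = ConjClasses.mk 1
    rw [map_one]
  have hQ1 : Q (trivIrr G) := rfl
  have hn1 : ∀ (g : G), ConjClasses.mk g = ConjClasses.mk 1 ↔ g = 1 := fun g => by
    rw [ConjClasses.mk_eq_mk_iff_isConj, isConj_one_left]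
  have hmap : ∀ g : G, P (ConjClasses.mk g) ↔ IsConj (α g) g := fun g =>
    ConjClasses.mk_eq_mk_iff_isConj (a := α g) (b := g)
  constructor
  · rintro ⟨θ, hθ, hne, hfix⟩
    have h1 : 1 < Nat.card {χ // Q χ} := by
      haveI : Nontrivial {χ // Q χ} := ⟨⟨⟨⟨θ, hθ⟩, hfix⟩, ⟨trivIrr G, hQ1⟩, fun e =>
        hne (congrArg (fun z : {χ // Q χ} => (z.1 : G → ℂ)) e)⟩⟩
      exact Finite.one_lt_card
    rw [← h, Finite.one_lt_card_iff_nontrivial] at h1
    obtain ⟨⟨C, hC⟩, hC1⟩ := exists_ne (⟨ConjClasses.mk 1, hP1⟩ : {C // P C})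
    obtain ⟨g, rfl⟩ := ConjClasses.mk_surjective C
    exact ⟨g, fun e => hC1 (Subtype.ext ((hn1 g).2 e)), (hmap g).1 hC⟩
  · rintro ⟨g, hg, hfix⟩
    have h1 : 1 < Nat.card {C // P C} := by
      haveI : Nontrivial {C // P C} := ⟨⟨⟨ConjClasses.mk g, (hmap g).2 hfix⟩,
        ⟨ConjClasses.mk 1, hP1⟩, fun e => hg ((hn1 g).1 (congrArg Subtype.val e))⟩⟩
      exact Finite.one_lt_card
    rw [h, Finite.one_lt_card_iff_nontrivial] at h1
    obtain ⟨⟨χ, hχ⟩, hχ1⟩ := exists_ne (⟨trivIrr G, hQ1⟩ : {χ // Q χ})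
    exact ⟨χ, χ.2, fun e => hχ1 (Subtype.ext (Subtype.ext e)), hχ⟩

end Cfsg.Agent.OddChar.Constituent
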