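import Cfsg.Agent.Lib.Characters.Induction
import Cfsg.Agent.Lib.Characters.Kernel

/-!
# The lattice of virtual characters

Integer coefficients of a generalized character on the irreducible characters, small norms, and
families of differences (the combinatorial heart of coherence).
-/

set_option linter.style.haveILetI false

namespace Cfsg.Agent.OddChar.Lattice

open Cfsg.Agent.Characters
open scoped ComplexConjugate

universe u

variable {G : Type u} [Group G] [Fintype G]

/-- The multiplicity of `χ` in `θ`, as an integer (meaningful for generalized characters). -/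
noncomputable def coeff (θ : G → ℂ) (χ : Cfsg.IrrCharacter G) : ℤ :=
  round (Cfsg.classInner θ (χ : G → ℂ)).re

theorem coeff_eq_of_inner {θ : G → ℂ} {χ : Cfsg.IrrCharacter G} {z : ℤ}
    (h : Cfsg.classInner θ (χ : G → ℂ) = (z : ℂ)) : coeff θ χ = z := by
  rw [coeff, h, Complex.intCast_re, round_intCast]

theorem coeff_spec {θ : G → ℂ} (h : Cfsg.IsGeneralizedCharacter G θ) (χ : Cfsg.IrrCharacter G) :
    Cfsg.classInner θ (χ : G → ℂ) = (coeff θ χ : ℂ) := by
  obtain ⟨z, hz⟩ := classInner_gen_int h (isGen_of_isCharacter (irr_isCharacter χ))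
  rw [hz, coeff_eq_of_inner hz]

theorem coeff_irr [DecidableEq (Cfsg.IrrCharacter G)] (χ ψ : Cfsg.IrrCharacter G) :
    coeff (χ : G → ℂ) ψ = if χ = ψ then 1 else 0 := by
  apply coeff_eq_of_inner
  rw [classInner_irr]
  by_cases h : χ = ψ <;> simp [h]

variable [Fintype (Cfsg.IrrCharacter G)]

theorem expansion {θ : G → ℂ} (h : Cfsg.IsGeneralizedCharacter G θ) :
    θ = ∑ χ : Cfsg.IrrCharacter G, (coeff θ χ : ℂ) • (χ : G → ℂ) := by
  conv_lhs => rw [classFun_eq_sum (isGen_isClassFunction h)]
  exact Finset.sum_congr rfl fun χ _ => by rw [coeff_spec h χ]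

theorem inner_eq_sum {θ η : G → ℂ} (hθ : Cfsg.IsGeneralizedCharacter G θ)
    (hη : Cfsg.IsGeneralizedCharacter G η) :
    Cfsg.classInner θ η = ((∑ χ : Cfsg.IrrCharacter G, coeff θ χ * coeff η χ : ℤ) : ℂ) := by
  rw [classInner_eq_sum η (isGen_isClassFunction hθ)]
  push_cast
  refine Finset.sum_congr rfl fun χ _ => ?_
  rw [coeff_spec hθ, classInner_conj_symm η (χ : G → ℂ), coeff_spec hη, map_intCast]

theorem sum_sq_of_norm {θ : G → ℂ} (hθ : Cfsg.IsGeneralizedCharacter G θ) {n : ℤ}
    (h : Cfsg.classInner θ θ = (n : ℂ)) :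
    ∑ χ : Cfsg.IrrCharacter G, coeff θ χ ^ 2 = n := by
  rw [inner_eq_sum hθ hθ, Int.cast_inj] at h
  simpa [sq] using h

theorem apply_eq_sum {θ : G → ℂ} (h : Cfsg.IsGeneralizedCharacter G θ) (g : G) :
    θ g = ∑ χ : Cfsg.IrrCharacter G, (coeff θ χ : ℂ) * (χ : G → ℂ) g := by
  conv_lhs => rw [expansion h]
  simp [Finset.sum_apply]

omit [Fintype G] [Fintype (Cfsg.IrrCharacter G)] in
/-- The degree of an irreducible character, as a natural number. -/
theorem exists_degree (χ : Cfsg.IrrCharacter G) : ∃ n : ℕ, 0 < n ∧ (χ : G → ℂ) 1 = (n : ℂ) :=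
  irr_one_pos χ.2

omit [Fintype (Cfsg.IrrCharacter G)] in
/-- A generalized character of norm two vanishing at `1` is a difference of two irreducibles. -/
theorem norm_two_deg_zero {θ : G → ℂ} (hθ : Cfsg.IsGeneralizedCharacter G θ)
    (hn : Cfsg.classInner θ θ = 2) (h1 : θ 1 = 0) :
    ∃ a b : Cfsg.IrrCharacter G, a ≠ b ∧ θ = (a : G → ℂ) - (b : G → ℂ) := by
  classical
  haveI := Fintype.ofFinite (Cfsg.IrrCharacter G)
  have hsq := sum_sq_of_norm hθ (n := 2) (by simpa using hn)
  set c := coeff θ
  have hle : ∀ χ, c χ ^ 2 ≤ 1 := by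
    intro χ
    by_contra hc
    have h4 : 4 ≤ c χ ^ 2 := by
      have : 2 ≤ |c χ| := by
        by_contra h'
        push Not at h'
        have : |c χ| ≤ 1 := by omega
        exact hc (by rw [← sq_abs]; nlinarith [abs_nonneg (c χ)])
      rw [← sq_abs]; nlinarith
    have := Finset.single_le_sum (f := fun χ => c χ ^ 2) (fun _ _ => sq_nonneg _) (Finset.mem_univ χ)
    rw [hsq] at this
    linarith
  have hval : ∀ χ, c χ = 0 ∨ c χ = 1 ∨ c χ = -1 := by
    intro χ
    have := hle χ
    have h1 : c χ ≤ 1 := by nlinarith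
    have h2 : -1 ≤ c χ := by nlinarith
    omega
  set s := Finset.univ.filter (fun χ => c χ ≠ 0) with hs
  have hcard : (s.card : ℤ) = 2 := by
    rw [← hsq, hs, Finset.card_filter]
    push_cast
    refine Finset.sum_congr rfl fun χ _ => ?_
    rcases hval χ with h | h | h <;> simp [h]
  obtain ⟨a, b, hab, hsab⟩ := Finset.card_eq_two.1 (by exact_mod_cast hcard)
  have hexp : θ = (c a : ℂ) • (a : G → ℂ) + (c b : ℂ) • (b : G → ℂ) := by
    conv_lhs => rw [expansion hθ]
    rw [← Finset.sum_pair (f := fun χ : Cfsg.IrrCharacter G => (c χ : ℂ) • (χ : G → ℂ)) hab, ← hsab]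
    refine (Finset.sum_subset (Finset.subset_univ _) fun χ _ hχ => ?_).symm
    simp only [hs, Finset.mem_filter, Finset.mem_univ, true_and, not_not] at hχ
    rw [show coeff θ χ = 0 from hχ]; simp
  have hca : c a ≠ 0 := (Finset.mem_filter.1 (show a ∈ s by rw [hsab]; simp)).2
  have hcb : c b ≠ 0 := (Finset.mem_filter.1 (show b ∈ s by rw [hsab]; simp)).2
  obtain ⟨da, hda, ha1⟩ := exists_degree a
  obtain ⟨db, hdb, hb1⟩ := exists_degree b
  have hdeg : c a * (da : ℤ) + c b * (db : ℤ) = 0 := by
    have := congrFun hexp 1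
    simp only [h1, Pi.add_apply, Pi.smul_apply, smul_eq_mul, ha1, hb1] at this
    exact_mod_cast this.symm
  rcases (hval a).resolve_left hca with h | h <;> rcases (hval b).resolve_left hcb with h' | h'
  · rw [h, h'] at hdeg; omega
  · exact ⟨a, b, hab, by rw [hexp, h, h']; simp [sub_eq_add_neg]⟩
  · exact ⟨b, a, hab.symm, by rw [hexp, h, h']; simp [sub_eq_add_neg, add_comm]⟩
  · rw [h, h'] at hdeg; omega

omit [Fintype (Cfsg.IrrCharacter G)] in
theorem inner_sub_sub [DecidableEq (Cfsg.IrrCharacter G)] (a b c d : Cfsg.IrrCharacter G) :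
    Cfsg.classInner ((a : G → ℂ) - (b : G → ℂ)) ((c : G → ℂ) - (d : G → ℂ)) =
      ((((if a = c then (1 : ℤ) else 0) - (if a = d then (1 : ℤ) else 0)) -
        ((if b = c then (1 : ℤ) else 0) - (if b = d then (1 : ℤ) else 0)) : ℤ) : ℂ) := by
  simp only [classInner_sub_left, classInner_sub_right, classInner_irr]
  push_cast
  ring

omit [Fintype (Cfsg.IrrCharacter G)] in
/-- A family of degree-zero norm-two virtual characters, pairwise with inner product one, is a
family `ε (μ i - μ i₀)`. -/
theorem exists_differences {ι : Type*} (i₀ : ι) (d : ι → G → ℂ) (h0 : d i₀ = 0)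
    (hgen : ∀ i, i ≠ i₀ → Cfsg.IsGeneralizedCharacter G (d i))
    (hdeg : ∀ i, i ≠ i₀ → d i 1 = 0)
    (hnorm : ∀ i, i ≠ i₀ → Cfsg.classInner (d i) (d i) = 2)
    (hinner : ∀ i j, i ≠ i₀ → j ≠ i₀ → i ≠ j → Cfsg.classInner (d i) (d j) = 1) :
    ∃ (ε : ℤ) (μ : ι → Cfsg.IrrCharacter G), (ε = 1 ∨ ε = -1) ∧ Function.Injective μ ∧
      ∀ i, d i = (ε : ℂ) • ((μ i : G → ℂ) - (μ i₀ : G → ℂ)) := by
  classical
  have hex : ∀ i, ∃ a b : Cfsg.IrrCharacter G, i ≠ i₀ → a ≠ b ∧ d i = (a : G → ℂ) - (b : G → ℂ) := by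
    intro i
    by_cases hi : i = i₀
    · exact ⟨trivIrr G, trivIrr G, fun h => absurd hi h⟩
    · obtain ⟨a, b, hab, he⟩ := norm_two_deg_zero (hgen i hi) (hnorm i hi) (hdeg i hi)
      exact ⟨a, b, fun _ => ⟨hab, he⟩⟩
  choose P N hPN using hex
  have hpair : ∀ i j, i ≠ i₀ → j ≠ i₀ → i ≠ j →
      (P i = P j ∧ N i ≠ N j ∨ N i = N j ∧ P i ≠ P j) ∧ P i ≠ N j := by
    intro i j hi hj hij
    obtain ⟨hab, he⟩ := hPN i hi
    obtain ⟨hcd, he'⟩ := hPN j hj
    have h := hinner i j hi hj hij
    rw [he, he', inner_sub_sub, ← Int.cast_one (R := ℂ), Int.cast_inj] at h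
    by_cases h1 : P i = P j <;> by_cases h2 : P i = N j <;> by_cases h3 : N i = P j <;>
      by_cases h4 : N i = N j <;>
      simp only [h1, h2, h3, h4, if_true, if_false] at h <;>
      first
        | omega
        | exact ⟨Or.inl ⟨h1, h4⟩, h2⟩
        | exact ⟨Or.inr ⟨h4, h1⟩, h2⟩
        | (exfalso; simp_all)
  by_cases htwo : ∃ i j, i ≠ i₀ ∧ j ≠ i₀ ∧ i ≠ j
  · obtain ⟨k, l, hk, hl, hkl⟩ := htwo
    rcases (hpair k l hk hl hkl).1 with ⟨hPkl, hNkl⟩ | ⟨hNkl, hPkl⟩
    · have hall : ∀ i, i ≠ i₀ → P i = P k := by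
        intro i hi
        by_contra hne
        have hik : i ≠ k := fun e => hne (e ▸ rfl)
        have hil : i ≠ l := fun e => hne (e ▸ hPkl.symm)
        rcases (hpair i k hi hk hik).1 with ⟨e, -⟩ | ⟨e, -⟩
        · exact hne e
        · rcases (hpair i l hi hl hil).1 with ⟨e', -⟩ | ⟨e', -⟩
          · exact hne (e'.trans hPkl.symm)
          · exact hNkl (e.symm.trans e')
      refine ⟨-1, fun i => if i = i₀ then P k else N i, Or.inr rfl, ?_, fun i => ?_⟩
      · intro i j hij
        by_cases hi : i = i₀ <;> by_cases hj : j = i₀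
        · rw [hi, hj]
        · simp only [hi, hj, if_true, if_false] at hij
          exact absurd ((hall j hj).trans hij) (hPN j hj).1
        · simp only [hi, hj, if_true, if_false] at hij
          exact absurd ((hall i hi).trans hij.symm) (hPN i hi).1
        · simp only [hi, hj, if_false] at hij
          by_contra hne
          rcases (hpair i j hi hj hne).1 with ⟨-, e⟩ | ⟨-, e⟩
          · exact e hij
          · exact e ((hall i hi).trans (hall j hj).symm)
      · by_cases hi : i = i₀
        · subst hi; simp [h0]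
        · simp only [hi, if_true, if_false]
          rw [(hPN i hi).2, hall i hi]
          simp
    · have hall : ∀ i, i ≠ i₀ → N i = N k := by
        intro i hi
        by_contra hne
        have hik : i ≠ k := fun e => hne (e ▸ rfl)
        have hil : i ≠ l := fun e => hne (e ▸ hNkl.symm)
        rcases (hpair i k hi hk hik).1 with ⟨e, -⟩ | ⟨e, -⟩
        · rcases (hpair i l hi hl hil).1 with ⟨e', -⟩ | ⟨e', -⟩
          · exact hPkl (e.symm.trans e')
          · exact hne (e'.trans hNkl.symm)
        · exact hne e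
      refine ⟨1, fun i => if i = i₀ then N k else P i, Or.inl rfl, ?_, fun i => ?_⟩
      · intro i j hij
        by_cases hi : i = i₀ <;> by_cases hj : j = i₀
        · rw [hi, hj]
        · simp only [hi, hj, if_true, if_false] at hij
          exact absurd (hij.symm.trans (hall j hj).symm) (hPN j hj).1
        · simp only [hi, hj, if_true, if_false] at hij
          exact absurd (hij.trans (hall i hi).symm) (hPN i hi).1
        · simp only [hi, hj, if_false] at hij
          by_contra hne
          rcases (hpair i j hi hj hne).1 with ⟨-, e⟩ | ⟨-, e⟩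
          · exact e ((hall i hi).trans (hall j hj).symm)
          · exact e hij
      · by_cases hi : i = i₀
        · subst hi; simp [h0]
        · simp only [hi, if_true, if_false]
          rw [(hPN i hi).2, hall i hi]
          simp
  · push Not at htwo
    by_cases hone : ∃ k, k ≠ i₀
    · obtain ⟨k, hk⟩ := hone
      have huniq : ∀ i, i ≠ i₀ → i = k := fun i hi => htwo i k hi hk
      refine ⟨1, fun i => if i = i₀ then N k else P k, Or.inl rfl, ?_, fun i => ?_⟩
      · intro i j hij
        by_cases hi : i = i₀ <;> by_cases hj : j = i₀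
        · rw [hi, hj]
        · simp only [hi, hj, if_true, if_false] at hij
          exact absurd hij.symm (hPN k hk).1
        · simp only [hi, hj, if_true, if_false] at hij
          exact absurd hij (hPN k hk).1
        · rw [huniq i hi, huniq j hj]
      · by_cases hi : i = i₀
        · subst hi; simp [h0]
        · obtain rfl := huniq i hi
          simp only [hi, if_true, if_false]
          rw [(hPN i hi).2]
          simp
    · push Not at hone
      refine ⟨1, fun _ => trivIrr G, Or.inl rfl, fun i j _ => (hone i).trans (hone j).symm, fun i => ?_⟩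
      rw [hone i, h0]; simp

end Cfsg.Agent.OddChar.Lattice
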