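import Cfsg.Agent.Lib.Characters.Induction
import Cfsg.Agent.Lib.CharTheory.IndBasic

/-!
# Induction from normal and trivial-intersection subgroups

Values of induced functions where only few conjugates meet the support.
-/

set_option linter.style.haveILetI false

namespace Cfsg.Agent.OddChar.Induce

open Cfsg.Agent.Characters
open Cfsg.Agent.CharTheory.IndBasic (extendByZero_coe extendByZero_of_mem extendByZero_of_notMem)
open scoped ComplexConjugate

universe u

variable {G : Type u} [Group G]

/-- Conjugation by an element of the normalizer, as an endomorphism of the subgroup. -/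
def conjHom (H : Subgroup G) (x : G) (hx : x ∈ Subgroup.normalizer (H : Set G)) : H ≃* H where
  toFun h := ⟨x⁻¹ * h * x, (Subgroup.mem_normalizer_iff''.1 hx _).1 h.2⟩
  invFun h := ⟨x * h * x⁻¹, (Subgroup.mem_normalizer_iff.1 hx _).1 h.2⟩
  left_inv h := Subtype.ext (by simp [mul_assoc])
  right_inv h := Subtype.ext (by simp [mul_assoc])
  map_mul' a b := Subtype.ext (by simp [mul_assoc])

@[simp] theorem conjHom_coe (H : Subgroup G) (x : G) (hx : x ∈ Subgroup.normalizer (H : Set G))
    (h : H) : ((conjHom H x hx h : H) : G) = x⁻¹ * h * x := rfl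

variable [Fintype G]

/-- If every `x` conjugating `g` into the support of `θ` lies in `K ≥ H`, only `K` contributes. -/
theorem indFun_eq_sum_of_subset (H K : Subgroup G) [Fintype K] (θ : H → ℂ) (g : G)
    (h : ∀ x : G, Cfsg.extendByZero H θ (x⁻¹ * g * x) ≠ 0 → x ∈ K) :
    Cfsg.indFun H θ g =
      (Nat.card H : ℂ)⁻¹ * ∑ x : K, Cfsg.extendByZero H θ ((x : G)⁻¹ * g * (x : G)) := by
  classical
  rw [Cfsg.indFun]
  congr 1
  rw [← Finset.sum_subtype (Finset.univ.filter fun x => x ∈ K) (fun x => by simp)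
    (fun x => Cfsg.extendByZero H θ (x⁻¹ * g * x))]
  refine (Finset.sum_subset (Finset.subset_univ _) fun x _ hx => ?_).symm
  simp only [Finset.mem_filter, Finset.mem_univ, true_and] at hx
  exact not_not.1 fun hne => hx (h x hne)

theorem indFun_eq_zero (H : Subgroup G) (θ : H → ℂ) (g : G)
    (h : ∀ x : G, Cfsg.extendByZero H θ (x⁻¹ * g * x) = 0) : Cfsg.indFun H θ g = 0 := by
  rw [Cfsg.indFun, Finset.sum_eq_zero fun x _ => h x, mul_zero]

/-- Restriction of an induced function to the subgroup when only the normalizer contributes. -/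
theorem indFun_apply_of_ti (H : Subgroup G) (θ : H → ℂ) (y : H)
    [Fintype (Subgroup.normalizer (H : Set G))]
    (h : ∀ x : G, ∀ hx : x⁻¹ * y * x ∈ H, θ ⟨_, hx⟩ ≠ 0 → x ∈ Subgroup.normalizer (H : Set G)) :
    Cfsg.indFun H θ y =
      (Nat.card H : ℂ)⁻¹ * ∑ x : Subgroup.normalizer (H : Set G), θ (conjHom H x x.2 y) := by
  rw [indFun_eq_sum_of_subset H (Subgroup.normalizer (H : Set G)) θ y]
  · refine congrArg _ (Finset.sum_congr rfl fun x _ => ?_)
    rw [extendByZero_of_mem H θ ((Subgroup.mem_normalizer_iff''.1 x.2 _).1 y.2)]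
    rfl
  · intro x hne
    by_cases hx : x⁻¹ * y * x ∈ H
    · exact h x hx (by rwa [extendByZero_of_mem H θ hx] at hne)
    · exact absurd (extendByZero_of_notMem H θ hx) hne

omit [Fintype G] in
theorem conj_mem_of_normal (H : Subgroup G) [hN : H.Normal] (x : G) :
    x ∈ Subgroup.normalizer (H : Set G) := by
  rw [Subgroup.normalizer_eq_top_iff.2 hN]; trivial

/-- Values on a normal subgroup of a function induced from it. -/
theorem indFun_apply_normal (H : Subgroup G) [H.Normal] (θ : H → ℂ) (y : H) :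
    Cfsg.indFun H θ y =
      (Nat.card H : ℂ)⁻¹ * ∑ x : G, θ (conjHom H x (conj_mem_of_normal H x) y) := by
  rw [Cfsg.indFun]
  refine congrArg _ (Finset.sum_congr rfl fun x _ => ?_)
  rw [extendByZero_of_mem H θ ((Subgroup.mem_normalizer_iff''.1 (conj_mem_of_normal H x) _).1 y.2)]
  rfl

theorem indFun_apply_normal_notMem (H : Subgroup G) [hN : H.Normal] (θ : H → ℂ) {g : G}
    (hg : g ∉ H) : Cfsg.indFun H θ g = 0 := by
  refine indFun_eq_zero H θ g fun x => extendByZero_of_notMem H θ fun hx => hg ?_
  simpa [mul_assoc] using hN.conj_mem _ hx x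

/-- Inducing a conjugate gives the same function. -/
theorem indFun_conjHom (H : Subgroup G) (θ : H → ℂ) (n : G)
    (hn : n ∈ Subgroup.normalizer (H : Set G)) :
    Cfsg.indFun H (fun h => θ (conjHom H n hn h)) = Cfsg.indFun H θ := by
  classical
  funext g
  rw [Cfsg.indFun, Cfsg.indFun]
  refine congrArg _ (Fintype.sum_equiv (Equiv.mulRight n) _ _ fun x => ?_)
  simp only [Equiv.coe_mulRight]
  by_cases hx : x⁻¹ * g * x ∈ H
  · rw [extendByZero_of_mem H _ hx,
      extendByZero_of_mem H θ (show (x * n)⁻¹ * g * (x * n) ∈ H by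
        simpa [mul_assoc] using (Subgroup.mem_normalizer_iff''.1 hn _).1 hx)]
    exact congrArg θ (Subtype.ext (by simp [mul_assoc]))
  · rw [extendByZero_of_notMem H _ hx, extendByZero_of_notMem H θ]
    intro h2
    refine hx ((Subgroup.mem_normalizer_iff''.1 hn _).2 ?_)
    simpa [mul_assoc] using h2

end Cfsg.Agent.OddChar.Induce
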