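import Cfsg.Prelude.Def_OddOrderChar
import Cfsg.Agent.Lib.Characters.Induction

/-!
# Isometries on lattices of class functions
-/

namespace Cfsg.Agent.OddChar.Isometry

open Cfsg.Agent.Characters

universe u v

/-- `zspanOn` as a submodule. -/
def zOn {X : Type u} (S : Set (X → ℂ)) (A : Set X) : Submodule ℤ (X → ℂ) where
  carrier := Cfsg.zspanOn S A
  zero_mem' := ⟨Submodule.zero_mem _, fun _ _ => rfl⟩
  add_mem' h h' := ⟨Submodule.add_mem _ h.1 h'.1, fun x hx => by simp [h.2 x hx, h'.2 x hx]⟩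
  smul_mem' n _ h := ⟨Submodule.smul_mem _ n h.1, fun x hx => by simp [h.2 x hx]⟩

theorem coe_zOn {X : Type u} (S : Set (X → ℂ)) (A : Set X) :
    (zOn S A : Set (X → ℂ)) = Cfsg.zspanOn S A := rfl

/-- The lattice spanned by `S`. -/
def zS {X : Type u} (S : Set (X → ℂ)) : Submodule ℤ (X → ℂ) := Submodule.span ℤ S

theorem coe_zS {X : Type u} (S : Set (X → ℂ)) :
    (zS S : Set (X → ℂ)) = Cfsg.zspan S := rfl

theorem mem_zS {X : Type u} {S : Set (X → ℂ)} {χ : X → ℂ} (h : χ ∈ S) : χ ∈ Cfsg.zspan S :=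
  Submodule.subset_span h

theorem zspan_mono {X : Type u} {S T : Set (X → ℂ)} (h : S ⊆ T) :
    Cfsg.zspan S ⊆ Cfsg.zspan T := Submodule.span_mono h

theorem zspanOn_mono {X : Type u} {S T : Set (X → ℂ)} (A : Set X) (h : S ⊆ T) :
    Cfsg.zspanOn S A ⊆ Cfsg.zspanOn T A := fun _ hα => ⟨zspan_mono h hα.1, hα.2⟩

/-- Membership in the lattice of combinations vanishing at one. -/
theorem mem_zspanOn_compl_one {X : Type u} [One X] {S : Set (X → ℂ)} {α : X → ℂ}
    (h : α ∈ Cfsg.zspan S) (h1 : α 1 = 0) : α ∈ Cfsg.zspanOn S {1}ᶜ :=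
  ⟨h, fun x hx => by
    have : x = 1 := by simpa using hx
    rw [this]; exact h1⟩

theorem apply_one_eq_zero {X : Type u} [One X] {S : Set (X → ℂ)} {α : X → ℂ}
    (h : α ∈ Cfsg.zspanOn S {1}ᶜ) : α 1 = 0 := h.2 1 (by simp)

variable {L : Type u} [Group L] [Fintype L] {G : Type v} [Group G] [Fintype G]
variable {M : Submodule ℤ (L → ℂ)} {τ : (L → ℂ) → (G → ℂ)}

theorem map_sub' (h : Cfsg.IsLinearIsometryOn (M : Set (L → ℂ)) τ) {α β : L → ℂ} (hα : α ∈ M)
    (hβ : β ∈ M) : τ (α - β) = τ α - τ β := by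
  have h1 := h.1 α hα ((-1 : ℤ) • β) (M.smul_mem _ hβ)
  rw [h.2.1 β hβ, neg_one_smul, neg_one_smul, ← sub_eq_add_neg, ← sub_eq_add_neg] at h1
  exact h1

theorem map_zero' (h : Cfsg.IsLinearIsometryOn (M : Set (L → ℂ)) τ) : τ 0 = 0 := by
  simpa using h.2.1 0 M.zero_mem 0

theorem map_neg' (h : Cfsg.IsLinearIsometryOn (M : Set (L → ℂ)) τ) {α : L → ℂ} (hα : α ∈ M) :
    τ (-α) = -τ α := by
  simpa using h.2.1 α hα (-1)

theorem map_sum' (h : Cfsg.IsLinearIsometryOn (M : Set (L → ℂ)) τ) {ι : Type*} (s : Finset ι)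
    (α : ι → L → ℂ) (hα : ∀ i ∈ s, α i ∈ M) : τ (∑ i ∈ s, α i) = ∑ i ∈ s, τ (α i) := by
  classical
  induction s using Finset.induction with
  | empty => simpa using map_zero' h
  | @insert a t hat ih =>
    rw [Finset.sum_insert hat, Finset.sum_insert hat,
      h.1 _ (hα a (by simp)) _ (M.sum_mem fun i hi => hα i (by simp [hi])),
      ih fun i hi => hα i (by simp [hi])]

end Cfsg.Agent.OddChar.Isometry
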