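import Cfsg.Agent.Lib.Characters.Induction
import Cfsg.Agent.OddChar.Lattice

/-!
# Irreducible characters up to sign, and small facts on virtual characters
-/

namespace Cfsg.Agent.OddChar.Signed

open Cfsg.Agent.Characters
open scoped ComplexConjugate

universe u

variable {G : Type u} [Group G]

/-- `θ` or `-θ` is an irreducible character. -/
def IsSIrr (θ : G → ℂ) : Prop := Cfsg.IsIrrCharacter G θ ∨ Cfsg.IsIrrCharacter G (-θ)

theorem IsSIrr.neg {θ : G → ℂ} (h : IsSIrr θ) : IsSIrr (-θ) :=
  h.symm.imp id fun h => by rwa [neg_neg]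

theorem IsSIrr.apply_one_ne_zero [Finite G] {θ : G → ℂ} (h : IsSIrr θ) : θ 1 ≠ 0 := by
  rcases h with h | h
  · exact irr_one_ne_zero h
  · exact fun e => irr_one_ne_zero h (by simp [e])

theorem IsSIrr.isGen [Finite G] {θ : G → ℂ} (h : IsSIrr θ) : Cfsg.IsGeneralizedCharacter G θ := by
  rcases h with h | h
  · exact isGen_of_isCharacter (isCharacter_of_isIrr h)
  · simpa using isGen_neg (isGen_of_isCharacter (isCharacter_of_isIrr h))

variable [Fintype G]

theorem IsSIrr.inner_self {θ : G → ℂ} (h : IsSIrr θ) : Cfsg.classInner θ θ = 1 := by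
  rcases h with h | h
  · exact classInner_isIrr_self h
  · simpa [classInner_def] using classInner_isIrr_self h

/-- Two signed irreducibles are orthogonal or equal up to sign. -/
theorem IsSIrr.inner_cases {α γ : G → ℂ} (hα : IsSIrr α) (hγ : IsSIrr γ) :
    Cfsg.classInner α γ = 0 ∨ α = γ ∨ α = -γ := by
  have aux : ∀ {a b : G → ℂ}, Cfsg.IsIrrCharacter G a → Cfsg.IsIrrCharacter G b →
      Cfsg.classInner a b = 0 ∨ a = b := fun ha hb =>
    (em _).symm.imp_left (classInner_isIrr_ne ha hb)
  have hr : ∀ a b : G → ℂ, Cfsg.classInner a (-b) = -Cfsg.classInner a b := fun a b => by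
    simp [classInner_def]
  rcases hα with h | h <;> rcases hγ with h' | h' <;> rcases aux h h' with e | e
  · exact Or.inl e
  · exact Or.inr (Or.inl e)
  · exact Or.inl (by rw [hr, neg_eq_zero] at e; exact e)
  · exact Or.inr (Or.inr e)
  · exact Or.inl (by rw [classInner_neg_left, neg_eq_zero] at e; exact e)
  · exact Or.inr (Or.inr (by rw [← e, neg_neg]))
  · exact Or.inl (by rw [classInner_neg_left, hr, neg_neg] at e; exact e)
  · exact Or.inr (Or.inl (neg_inj.1 e))

/-- The inner product of virtual characters is symmetric. -/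
theorem gen_inner_comm {θ η : G → ℂ} (h : Cfsg.IsGeneralizedCharacter G θ)
    (h' : Cfsg.IsGeneralizedCharacter G η) : Cfsg.classInner θ η = Cfsg.classInner η θ := by
  obtain ⟨z, hz⟩ := classInner_gen_int h h'
  rw [classInner_conj_symm θ η, hz, map_intCast]

/-- A virtual character of norm one. -/
theorem isSIrr_of_norm_one {θ : G → ℂ} (h : Cfsg.IsGeneralizedCharacter G θ)
    (h1 : Cfsg.classInner θ θ = 1) : IsSIrr θ := isGen_norm_one h h1

end Cfsg.Agent.OddChar.Signed
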