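import Cfsg.Agent.Lib.Characters.Artin
import Cfsg.Agent.Lib.Characters.Induction

/-!
# Characters twisted by a power map of exponent prime to the group order
-/

set_option linter.style.haveILetI false

namespace Cfsg.Agent.OddChar.PowTwist

open Cfsg.Agent.Characters Cfsg.Agent.Characters.Artin
open scoped ComplexConjugate

universe u

variable {G : Type u} [Group G] [Fintype G]

/-- Induction commutes with a power map of exponent prime to the order. -/
theorem indFun_comp_pow (H : Subgroup G) (θ : H → ℂ) {k : ℕ} (hk : k.Coprime (Nat.card G)) (g : G) :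
    Cfsg.indFun H θ (g ^ k) = Cfsg.indFun H (fun h => θ (h ^ k)) g := by
  simp only [Cfsg.indFun]
  refine congrArg _ (Finset.sum_congr rfl fun x _ => ?_)
  have he : x⁻¹ * g ^ k * x = (x⁻¹ * g * x) ^ k := by
    have := (conj_pow (a := x⁻¹) (b := g) (i := k)).symm
    rwa [inv_inv] at this
  rw [he]
  by_cases hy : x⁻¹ * g * x ∈ H
  · rw [CharTheory.IndBasic.extendByZero_of_mem H θ (H.pow_mem hy k),
      CharTheory.IndBasic.extendByZero_of_mem H _ hy]
    rfl
  · rw [CharTheory.IndBasic.extendByZero_of_notMem H _ hy,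
      CharTheory.IndBasic.extendByZero_of_notMem H θ]
    intro hmem
    obtain ⟨m, hm⟩ := exists_pow_eq_self_of_coprime (x := x⁻¹ * g * x) (n := k)
      (hk.coprime_dvd_right (orderOf_dvd_natCard _))
    exact hy (hm ▸ H.pow_mem hmem m)

theorem isGen_comp_pow {χ : G → ℂ} (hχ : Cfsg.IsCharacter G χ) {k : ℕ}
    (hk : k.Coprime (Nat.card G)) : Cfsg.IsGeneralizedCharacter G (fun g => χ (g ^ k)) := by
  suffices h : ∀ f ∈ linSpan (fun E : Subgroup G => ∃ p : ℕ, p.Prime ∧ Cfsg.IsElementary p E),
      Cfsg.IsGeneralizedCharacter G (fun g => f (g ^ k)) from h χ (brauer_induction hχ)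
  intro f hf
  induction hf using AddSubgroup.closure_induction with
  | mem f hf =>
    obtain ⟨H, lam, -, rfl⟩ := hf
    have e : (fun g => Cfsg.indFun H (fun h => (lam h : ℂ)) (g ^ k)) =
        Cfsg.indFun H (fun h => ((lam ^ k) h : ℂ)) := by
      funext g
      rw [indFun_comp_pow H _ hk g]
      congr 1
      funext h
      simp [map_pow]
    rw [e]
    exact isGen_indFun H (isGen_of_isCharacter (isCharacter_linear (lam ^ k)))
  | zero => exact isGen_zero
  | add a b _ _ iha ihb => exact isGen_add iha ihb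
  | neg a _ iha => exact isGen_neg iha

/-- A power twist of an irreducible character is irreducible. -/
theorem isIrr_comp_pow {χ : G → ℂ} (hχ : Cfsg.IsIrrCharacter G χ) {k : ℕ}
    (hk : k.Coprime (Nat.card G)) : Cfsg.IsIrrCharacter G (fun g => χ (g ^ k)) := by
  refine isIrr_of_gen_norm_one (isGen_comp_pow (isCharacter_of_isIrr hχ) hk) ?_ ?_
  · rw [← classInner_isIrr_self hχ, classInner_def, classInner_def]
    congr 1
    exact Fintype.sum_equiv (powCoprime (G := G) hk.symm) _ _ fun g => rfl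
  · obtain ⟨n, hn, he⟩ := irr_one_pos hχ
    simp [he, hn]

theorem isCharacter_comp_pow {χ : G → ℂ} (hχ : Cfsg.IsCharacter G χ) {k : ℕ}
    (hk : k.Coprime (Nat.card G)) : Cfsg.IsCharacter G (fun g => χ (g ^ k)) := by
  haveI := Fintype.ofFinite (Cfsg.IrrCharacter G)
  obtain ⟨n, hn⟩ := char_eq_sum_nat hχ
  rw [hn]
  have e : (fun g => (∑ ψ : Cfsg.IrrCharacter G, (n ψ : ℂ) • (ψ : G → ℂ)) (g ^ k)) =
      ∑ ψ : Cfsg.IrrCharacter G, (n ψ : ℂ) • (fun g => (ψ : G → ℂ) (g ^ k)) := by
    funext g; simp [Finset.sum_apply]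
  rw [e]
  exact isCharacter_sum _ _ fun ψ _ =>
    isCharacter_natSmul (isCharacter_of_isIrr (isIrr_comp_pow ψ.2 hk)) _

end Cfsg.Agent.OddChar.PowTwist
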