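import Cfsg.Agent.Lib.CharTheory.Clifford
import Cfsg.Agent.Lib.CharTheory.Basics
import Cfsg.Agent.Lib.Characters.Counting
import Cfsg.Agent.S0854
import Cfsg.Agent.OddChar.Constituent

/-!
# The Clifford correspondence and induced characters with abelian inertia quotient
-/

set_option linter.style.haveILetI false

namespace Cfsg.Agent.OddChar.Clifford

open Cfsg.Agent.Characters
open Cfsg.Agent.CharTheory (Clifford.conjBy)
open scoped ComplexConjugate

universe u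

variable {G : Type u} [Group G] [Fintype G]

/-- Restriction of a function on `T` to `H ≤ T`. -/
def resTo {H T : Subgroup G} (hHT : H ≤ T) (ψ : T → ℂ) : H → ℂ := fun n => ψ ⟨(n : G), hHT n.2⟩

omit [Fintype G] in
theorem resTo_eq_comp {H T : Subgroup G} (hHT : H ≤ T) (ψ : T → ℂ) :
    resTo hHT ψ = ψ ∘ Subgroup.inclusion hHT := rfl

theorem isCharacter_resTo {H T : Subgroup G} (hHT : H ≤ T) {ψ : T → ℂ}
    (h : Cfsg.IsCharacter T ψ) : Cfsg.IsCharacter H (resTo hHT ψ) :=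
  isCharacter_comp (Subgroup.inclusion hHT) h

theorem inner_ind_subgroupOf (H T : Subgroup G) [Fintype H] [Fintype T] (hHT : H ≤ T)
    (θ : H → ℂ) {ψ : T → ℂ} (hψ : Cfsg.IsClassFunction T ψ) :
    Cfsg.classInner (Cfsg.indFun (H.subgroupOf T)
        (fun x => θ ⟨(x : T), Subgroup.mem_subgroupOf.mp x.2⟩)) ψ =
      Cfsg.classInner θ (resTo hHT ψ) := by
  classical
  haveI := Fintype.ofFinite (H.subgroupOf T)
  rw [frobenius_reciprocity (H.subgroupOf T) _ hψ]
  exact CharTheory.Basics.classInner_comp_equiv (Subgroup.subgroupOfEquivOfLe hHT) θ (resTo hHT ψ)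

section Corr

variable (H T : Subgroup G) [hN : H.Normal] [Fintype H] [Fintype T] {θ : H → ℂ}
  (hθ : Cfsg.IsIrrCharacter H θ)
  (hT : ∀ g : G, g ∈ T ↔ ∀ h : H, θ ⟨g * h * g⁻¹, hN.conj_mem h h.2 g⟩ = θ h) (hHT : H ≤ T)

include hθ hT

theorem eq_of_lie_over {χ : G → ℂ} (hχ : Cfsg.IsIrrCharacter G χ) {ψ : T → ℂ}
    (hψ : Cfsg.IsIrrCharacter T ψ) (hc : Cfsg.classInner (resTo hHT ψ) θ ≠ 0)
    (hcon : Cfsg.classInner (Cfsg.indFun T ψ) χ ≠ 0) :
    Cfsg.indFun T ψ = χ ∧ ∀ ψ' : T → ℂ, Cfsg.IsIrrCharacter T ψ' →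
      Cfsg.classInner (resTo hHT ψ') θ ≠ 0 → Cfsg.classInner (Cfsg.indFun T ψ') χ ≠ 0 → ψ' = ψ := by
  classical
  haveI := Fintype.ofFinite (Cfsg.IrrCharacter T)
  have hχc := isCharacter_of_isIrr hχ
  have hθc := isCharacter_of_isIrr hθ
  set ξ : T → ℂ := fun t => χ t with hξdef
  have hξ : Cfsg.IsCharacter T ξ := isCharacter_restrict T hχc
  obtain ⟨m, hm⟩ := char_eq_sum_nat hξ
  have hmul : ∀ φ : Cfsg.IrrCharacter T, Cfsg.classInner ξ (φ : T → ℂ) = (m φ : ℂ) := fun φ => by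
    rw [hm, classInner_sum_smul_irr (c := fun ξ : Cfsg.IrrCharacter T => (m ξ : ℂ)) Finset.univ φ,
      if_pos (Finset.mem_univ _)]
  have hcons : ∀ φ : Cfsg.IrrCharacter T, Cfsg.classInner (Cfsg.indFun T (φ : T → ℂ)) χ ≠ 0 →
      m φ ≠ 0 := fun φ h e => h (by
    rw [frobenius_reciprocity T _ (char_isClassFunction hχc), classInner_conj_symm ξ,
      hmul φ, e, Nat.cast_zero, map_zero])
  choose b hb using fun φ : Cfsg.IrrCharacter T =>
    classInner_char_nat (isCharacter_resTo hHT (irr_isCharacter φ)) hθc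
  have hres : (fun n : H => χ n) = ∑ φ : Cfsg.IrrCharacter T,
      (m φ : ℂ) • resTo hHT (φ : T → ℂ) := by
    funext n
    have h := congrFun hm ⟨(n : G), hHT n.2⟩
    simp only [hξdef, Finset.sum_apply, Pi.smul_apply] at h
    simpa [resTo, Finset.sum_apply] using h
  have hcount : Cfsg.classInner (fun n : H => χ n) θ = ((∑ φ, m φ * b φ : ℕ) : ℂ) := by
    rw [hres, classInner_sum_left]
    push_cast
    exact Finset.sum_congr rfl fun φ _ => by rw [classInner_smul_left, hb]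
  have hm1 := hcons ⟨ψ, hψ⟩ hcon
  have hb1 : b ⟨ψ, hψ⟩ ≠ 0 := fun e => hc (by rw [hb ⟨ψ, hψ⟩, e, Nat.cast_zero])
  have hne : Cfsg.classInner (fun n : H => χ n) θ ≠ 0 := by
    rw [hcount, Nat.cast_ne_zero]
    exact fun e => Nat.mul_ne_zero hm1 hb1 (Finset.sum_eq_zero_iff.1 e _ (Finset.mem_univ _))
  obtain ⟨ψ₀, hψ₀, hind, he⟩ := Cfsg.Agent.S0854.result H θ hθ T hT hHT χ hχ hne
  have h0 : m ⟨ψ₀, hψ₀⟩ ≠ 0 := hcons _ (by
    show Cfsg.classInner (Cfsg.indFun T ψ₀) χ ≠ 0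
    rw [hind, classInner_isIrr_self hχ]; exact one_ne_zero)
  have hb0 : b ⟨ψ₀, hψ₀⟩ = ∑ φ, m φ * b φ := by
    have h := (hb ⟨ψ₀, hψ₀⟩).symm.trans (he.trans hcount)
    exact_mod_cast h
  have huniq : ∀ φ : Cfsg.IrrCharacter T, m φ ≠ 0 → b φ ≠ 0 → φ = ⟨ψ₀, hψ₀⟩ := by
    intro φ hmφ hbφ
    by_contra hne'
    have h := Finset.add_le_sum (f := fun φ => m φ * b φ) (fun _ _ => Nat.zero_le _)
      (Finset.mem_univ φ) (Finset.mem_univ (⟨ψ₀, hψ₀⟩ : Cfsg.IrrCharacter T)) hne'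
    rw [← hb0] at h
    have h1 : 1 ≤ m φ * b φ := Nat.one_le_iff_ne_zero.2 (Nat.mul_ne_zero hmφ hbφ)
    have h2 : b ⟨ψ₀, hψ₀⟩ ≤ m ⟨ψ₀, hψ₀⟩ * b ⟨ψ₀, hψ₀⟩ :=
      Nat.le_mul_of_pos_left _ (Nat.pos_of_ne_zero h0)
    omega
  have e1 : ψ = ψ₀ := congrArg Subtype.val (huniq ⟨ψ, hψ⟩ hm1 hb1)
  refine ⟨by rw [e1]; exact hind, fun ψ' hψ' hc' hcon' => ?_⟩
  rw [e1]
  exact congrArg Subtype.val (huniq ⟨ψ', hψ'⟩ (hcons _ hcon')
    fun e => hc' (by rw [hb ⟨ψ', hψ'⟩, e, Nat.cast_zero]))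

include hHT in
theorem correspondence {ψ ψ' : T → ℂ} (hψ : Cfsg.IsIrrCharacter T ψ)
    (hψ' : Cfsg.IsIrrCharacter T ψ') (hc : Cfsg.classInner (resTo hHT ψ) θ ≠ 0)
    (hc' : Cfsg.classInner (resTo hHT ψ') θ ≠ 0) :
    Cfsg.IsIrrCharacter G (Cfsg.indFun T ψ) ∧
      (Cfsg.indFun T ψ = Cfsg.indFun T ψ' → ψ = ψ') := by
  obtain ⟨χ, hχ, hcon⟩ := Constituent.exists_constituent
    (isCharacter_indFun T (isCharacter_of_isIrr hψ)) (by
      rw [indFun_one]
      exact mul_ne_zero (Nat.cast_ne_zero.2 Subgroup.index_ne_zero_of_finite) (irr_one_ne_zero hψ))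
  obtain ⟨he, huniq⟩ := eq_of_lie_over H T hθ hT hHT hχ hψ hc hcon
  exact ⟨he ▸ hχ, fun e => (huniq ψ' hψ' hc' (e ▸ hcon)).symm⟩

end Corr

omit [Fintype G] in
theorem sum_dual_eq {A : Type u} [Group A] [Fintype A] [Fintype (A →* ℂˣ)]
    (hA : ∀ a b : A, a * b = b * a) (a : A) [Decidable (a = 1)] :
    ∑ lam : A →* ℂˣ, (lam a : ℂ) = if a = 1 then (Nat.card A : ℂ) else 0 := by
  classical
  letI : CommGroup A := { (inferInstance : Group A) with mul_comm := hA }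
  split_ifs with h
  · subst h
    simp [← Nat.card_eq_fintype_card, CommGroup.card_monoidHom_of_hasEnoughRootsOfUnity A ℂ]
  · obtain ⟨f, hf⟩ := CommGroup.exists_apply_ne_one_of_hasEnoughRootsOfUnity A ℂ h
    have hshift : ∑ lam : A →* ℂˣ, ((f * lam) a : ℂ) = ∑ lam : A →* ℂˣ, (lam a : ℂ) :=
      Fintype.sum_equiv (Equiv.mulLeft f) _ _ fun _ => rfl
    simp only [MonoidHom.mul_apply, Units.val_mul, ← Finset.mul_sum] at hshift
    by_contra h0
    exact hf (Units.ext ((mul_eq_right₀ h0).1 hshift))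

/-- An invariant character induced through an abelian quotient. -/
theorem decompose_abelian (N : Subgroup G) [hN : N.Normal] [Fintype N] {θ : N → ℂ}
    (hθ : Cfsg.IsIrrCharacter N θ) (hinv : ∀ g : G, CharTheory.Clifford.conjBy N g θ = θ)
    (hab : ∀ x y : G, x * y * x⁻¹ * y⁻¹ ∈ N) :
    ∃ (e : ℕ) (C : Finset (G → ℂ)), 0 < e ∧ (∀ ψ ∈ C, Cfsg.IsIrrCharacter G ψ) ∧
      e ^ 2 * C.card = N.index ∧ Cfsg.indFun N θ = (e : ℂ) • ∑ ψ ∈ C, ψ ∧
      ∀ ψ ∈ C, ψ 1 = (e : ℂ) * θ 1 ∧ Cfsg.classInner (fun n : N => ψ n) θ = (e : ℂ) := by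
  classical
  haveI := Fintype.ofFinite (G ⧸ N)
  have habq : ∀ a b : G ⧸ N, a * b = b * a := by
    intro a b
    obtain ⟨x, rfl⟩ := QuotientGroup.mk'_surjective N a
    obtain ⟨y, rfl⟩ := QuotientGroup.mk'_surjective N b
    rw [← map_mul, ← map_mul]
    refine QuotientGroup.eq.2 ?_
    have h := hab y⁻¹ x⁻¹
    simpa [mul_assoc] using h
  letI : CommGroup (G ⧸ N) :=
    { (inferInstance : Group (G ⧸ N)) with mul_comm := habq }
  haveI : Finite (G ⧸ N →* ℂˣ) := Finite.of_injective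
    (fun lam => (⟨fun a => (lam a : ℂ), isIrrCharacter_linear lam⟩ : Cfsg.IrrCharacter (G ⧸ N)))
    fun _ _ h => MonoidHom.ext fun a => Units.ext (congrFun (congrArg Subtype.val h) a)
  haveI := Fintype.ofFinite (G ⧸ N →* ℂˣ)
  have hθc := isCharacter_of_isIrr hθ
  have hI := isCharacter_indFun N hθc
  obtain ⟨ψ₁, hψ₁, hcon⟩ := Constituent.exists_constituent hI (by
    rw [indFun_one]
    exact mul_ne_zero (Nat.cast_ne_zero.2 Subgroup.index_ne_zero_of_finite) (irr_one_ne_zero hθ))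
  have hψc := isCharacter_of_isIrr hψ₁
  obtain ⟨e, he⟩ := classInner_char_nat (isCharacter_restrict N hψc) hθc
  have hI1 : Cfsg.classInner (Cfsg.indFun N θ) ψ₁ = (e : ℂ) := by
    rw [frobenius_reciprocity N θ (char_isClassFunction hψc),
      classInner_conj_symm (fun n : N => ψ₁ n) θ, he, Complex.conj_natCast]
  have he0 : e ≠ 0 := fun h => hcon (by rw [hI1, h, Nat.cast_zero])
  have hres : (fun n : N => ψ₁ n) = (e : ℂ) • θ := by
    rw [← he]
    exact CharTheory.Clifford.restrict_eq_smul_of_invariant N hψ₁ hθ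
      (by rw [he]; exact_mod_cast he0) hinv
  set f : (G ⧸ N →* ℂˣ) → (G → ℂ) := fun lam x => ψ₁ x * (lam (QuotientGroup.mk' N x) : ℂ) with hf
  have hfirr : ∀ lam, Cfsg.IsIrrCharacter G (f lam) := fun lam =>
    CharTheory.Basics.isIrr_mul_linear hψ₁
      (isCharacter_linear (lam.comp (QuotientGroup.mk' N))) (by simp)
  have hfres : ∀ lam (n : N), f lam (n : G) = (e : ℂ) * θ n := fun lam n => by
    have hq : QuotientGroup.mk' N (n : G) = 1 := (QuotientGroup.eq_one_iff _).2 n.2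
    have := congrFun hres n
    simp only [Pi.smul_apply, smul_eq_mul] at this
    simp only [hf, hq, map_one, Units.val_one, mul_one, this]
  have hid : (e : ℂ) • Cfsg.indFun N θ = ∑ lam, f lam := by
    funext x
    simp only [Finset.sum_apply, hf, ← Finset.mul_sum, Pi.smul_apply, smul_eq_mul,
      sum_dual_eq habq]
    by_cases hx : x ∈ N
    · rw [if_pos (show QuotientGroup.mk' N x = 1 from (QuotientGroup.eq_one_iff x).2 hx),
        CharTheory.Clifford.indFun_coe_of_invariant N hinv ⟨x, hx⟩, ← Subgroup.index_eq_card]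
      have := congrFun hres ⟨x, hx⟩
      simp only [Pi.smul_apply, smul_eq_mul] at this
      rw [this]; ring
    · rw [if_neg (show ¬ QuotientGroup.mk' N x = 1 from fun h => hx ((QuotientGroup.eq_one_iff x).1 h)),
        CharTheory.Clifford.indFun_of_notMem N θ hx, mul_zero, mul_zero]
  set C := Finset.univ.image f with hC
  set k := (Finset.univ.filter fun lam => f lam = ψ₁).card with hk
  have h1 : f 1 = ψ₁ := by funext x; simp [hf]
  have hfib : ∀ ψ ∈ C, (Finset.univ.filter fun lam => f lam = ψ).card = k := by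
    intro ψ hψ
    obtain ⟨l₀, -, rfl⟩ := Finset.mem_image.1 hψ
    refine (Finset.card_equiv (Equiv.mulRight l₀) fun lam => ?_).symm
    simp only [Finset.mem_filter, Finset.mem_univ, true_and, Equiv.coe_mulRight, funext_iff, hf,
      MonoidHom.mul_apply, Units.val_mul]
    refine forall_congr' fun x => ⟨fun h => by rw [← mul_assoc, h], fun h => ?_⟩
    rw [← mul_assoc] at h
    exact mul_right_cancel₀ (Units.ne_zero _) h
  have hsum : ∑ lam, f lam = (k : ℂ) • ∑ ψ ∈ C, ψ := by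
    rw [← Finset.sum_fiberwise_of_maps_to (t := C) (g := f)
      (fun lam _ => Finset.mem_image_of_mem _ (Finset.mem_univ lam)), Finset.smul_sum]
    refine Finset.sum_congr rfl fun ψ hψ => ?_
    rw [Finset.sum_congr rfl fun lam hl => (Finset.mem_filter.1 hl).2, Finset.sum_const, hfib ψ hψ,
      ← Nat.cast_smul_eq_nsmul ℂ]
  have hm : C.card * k = N.index := by
    rw [Subgroup.index_eq_card, ← CommGroup.card_monoidHom_of_hasEnoughRootsOfUnity (G ⧸ N) ℂ,
      Nat.card_eq_fintype_card, ← Finset.card_univ, Finset.card_eq_sum_card_image f Finset.univ,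
      Finset.sum_const_nat hfib]
  have hψ₁C : ψ₁ ∈ C := Finset.mem_image.2 ⟨1, Finset.mem_univ _, h1⟩
  have hCirr : ∀ ψ ∈ C, Cfsg.IsIrrCharacter G ψ := fun ψ hψ => by
    obtain ⟨l, -, rfl⟩ := Finset.mem_image.1 hψ; exact hfirr l
  have hke : k = e ^ 2 := by
    have h := congrArg (fun F => Cfsg.classInner F ψ₁) (hid.trans hsum)
    simp only [classInner_smul_left, hI1, classInner_sum_left] at h
    rw [Finset.sum_eq_single ψ₁
      (fun ψ hψ hne => classInner_isIrr_ne (hCirr ψ hψ) hψ₁ hne) (fun hh => absurd hψ₁C hh),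
      classInner_isIrr_self hψ₁, mul_one] at h
    rw [sq]; exact_mod_cast h.symm
  refine ⟨e, C, Nat.pos_of_ne_zero he0, hCirr, by rw [← hm, hke, mul_comm], ?_, fun ψ hψ => ?_⟩
  · have h := hid.trans hsum
    rw [hke, Nat.cast_pow, sq, ← smul_smul] at h
    exact smul_right_injective (G → ℂ) (Nat.cast_ne_zero.2 he0 : (e : ℂ) ≠ 0) h
  · obtain ⟨l, -, rfl⟩ := Finset.mem_image.1 hψ
    refine ⟨hfres l 1, ?_⟩
    rw [show (fun n : N => f l n) = (e : ℂ) • θ from funext (hfres l), classInner_smul_left,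
      classInner_isIrr_self hθ, mul_one]

end Cfsg.Agent.OddChar.Clifford
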