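import Cfsg.Agent.OddChar.Clifford
import Cfsg.Agent.S0867
import Cfsg.Agent.Lib.Characters.Integrality

/-!
# Constituents of a character induced from a normal subgroup with abelian inertia quotient
-/

set_option linter.style.haveILetI false

namespace Cfsg.Agent.OddChar.Clifford

open Cfsg.Agent.Characters

universe u

variable {G : Type u} [Group G] [Fintype G]

theorem indFun_sum (T : Subgroup G) {ι : Type*} (s : Finset ι) (f : ι → T → ℂ) :
    Cfsg.indFun T (∑ i ∈ s, f i) = ∑ i ∈ s, Cfsg.indFun T (f i) := by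
  classical
  induction s using Finset.induction with
  | empty => simp [indFun_zero]
  | @insert a t hat ih => rw [Finset.sum_insert hat, Finset.sum_insert hat, indFun_add, ih]

omit [Fintype G] in
theorem le_inertia (H : Subgroup G) [hN : H.Normal] [Finite H] (T : Subgroup G) {θ : H → ℂ}
    (hθ : Cfsg.IsIrrCharacter H θ)
    (hT : ∀ g : G, g ∈ T ↔ ∀ h : H, θ ⟨g * h * g⁻¹, hN.conj_mem h h.2 g⟩ = θ h) : H ≤ T :=
  fun g hg => (hT g).2 fun h => char_isClassFunction (isCharacter_of_isIrr hθ) h ⟨g, hg⟩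

/-- Shape of `Ind θ` when the inertia quotient is abelian. -/
theorem decompose_induced (H T : Subgroup G) [hN : H.Normal] {θ : H → ℂ}
    (hθ : Cfsg.IsIrrCharacter H θ)
    (hT : ∀ g : G, g ∈ T ↔ ∀ h : H, θ ⟨g * h * g⁻¹, hN.conj_mem h h.2 g⟩ = θ h)
    (hab : ∀ x ∈ T, ∀ y ∈ T, x * y * x⁻¹ * y⁻¹ ∈ H) :
    ∃ (e : ℕ) (C : Finset (G → ℂ)), 0 < e ∧ (∀ χ ∈ C, Cfsg.IsIrrCharacter G χ) ∧
      e ^ 2 * C.card = H.relIndex T ∧ Cfsg.indFun H θ = (e : ℂ) • ∑ χ ∈ C, χ ∧
      (∀ χ ∈ C, χ 1 = (T.index : ℂ) * e * θ 1) ∧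
      (Nat.Coprime (Nat.card H) (H.relIndex T) → e = 1) := by
  classical
  haveI := Fintype.ofFinite H
  haveI := Fintype.ofFinite T
  have hHT := le_inertia H T hθ hT
  set N := H.subgroupOf T with hNdef
  haveI := Fintype.ofFinite N
  set θ' : N → ℂ := fun x => θ ⟨(x : T), Subgroup.mem_subgroupOf.mp x.2⟩ with hθ'
  have hθ'i : Cfsg.IsIrrCharacter N θ' :=
    CharTheory.Basics.isIrrCharacter_comp_equiv (Subgroup.subgroupOfEquivOfLe hHT) hθ
  have hinv : ∀ g : T, CharTheory.Clifford.conjBy N g θ' = θ' := fun g => funext fun n =>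
    (hT g).1 g.2 ⟨(n : T), Subgroup.mem_subgroupOf.mp n.2⟩
  obtain ⟨e, C, he, hC, hcard, hind, hprop⟩ := decompose_abelian N hθ'i hinv
    fun x y => Subgroup.mem_subgroupOf.2 (by simpa using hab x x.2 y y.2)
  have hover : ∀ ψ ∈ C, Cfsg.classInner (resTo hHT ψ) θ ≠ 0 := by
    intro ψ hψ
    have h1 := (hprop ψ hψ).2
    rw [show (fun n : N => ψ n) = resTo hHT ψ ∘ Subgroup.subgroupOfEquivOfLe hHT from rfl,
      show θ' = θ ∘ Subgroup.subgroupOfEquivOfLe hHT from rfl,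
      CharTheory.Basics.classInner_comp_equiv] at h1
    rw [h1]; exact_mod_cast he.ne'
  have hcorr : ∀ ψ ∈ C, ∀ ψ' ∈ C, Cfsg.IsIrrCharacter G (Cfsg.indFun T ψ) ∧
      (Cfsg.indFun T ψ = Cfsg.indFun T ψ' → ψ = ψ') := fun ψ h ψ' h' =>
    correspondence H T hθ hT hHT (hC ψ h) (hC ψ' h') (hover ψ h) (hover ψ' h')
  have hinj : Set.InjOn (Cfsg.indFun T) (C : Set (T → ℂ)) := fun ψ h ψ' h' e =>
    (hcorr ψ h ψ' h').2 e
  refine ⟨e, C.image (Cfsg.indFun T), he, ?_, ?_, ?_, ?_, ?_⟩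
  · intro χ hχ
    obtain ⟨ψ, hψ, rfl⟩ := Finset.mem_image.1 hχ
    exact (hcorr ψ hψ ψ hψ).1
  · rw [Finset.card_image_of_injOn hinj]
    exact hcard
  · rw [← indFun_trans H T hHT θ, hind, indFun_smul, indFun_sum, Finset.sum_image hinj]
  · intro χ hχ
    obtain ⟨ψ, hψ, rfl⟩ := Finset.mem_image.1 hχ
    rw [indFun_one, (hprop ψ hψ).1, show θ' 1 = θ 1 from rfl, mul_assoc]
  · intro hcop
    obtain ⟨d, hd, -, hdvd⟩ := irr_degree_dvd_card hθ'i
    have hcN : Nat.Coprime N.index (Nat.card N) := by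
      rw [Nat.card_congr (Subgroup.subgroupOfEquivOfLe hHT).toEquiv]
      exact hcop.symm
    have hdet : Cfsg.detOrder θ' ∣ Nat.card N := by
      refine orderOf_dvd_of_pow_eq_one (funext fun x => ?_)
      obtain ⟨h1, h2⟩ := CharTheory.ExtendChar.detChar_isLinear (isCharacter_of_isIrr hθ'i)
      obtain ⟨f, hf⟩ := CharTheory.ExtendChar.exists_hom h1 h2
      rw [Pi.pow_apply, ← hf, ← Units.val_pow_eq_pow_val, ← map_pow, pow_card_eq_one', map_one]
      rfl
    have hc2 : Nat.Coprime N.index (Cfsg.detOrder θ' * d) := Nat.Coprime.mul_right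
      (hcN.coprime_dvd_right hdet) (hcN.coprime_dvd_right hdvd)
    obtain ⟨χ, ⟨hχ, hχN, -⟩, -⟩ := Cfsg.Agent.S0867.result N θ' hθ'i
      (fun g n => congrFun (hinv g) n) d hd hc2
    have hres : (fun n : N => χ n) = θ' := funext hχN
    have hin : Cfsg.classInner (Cfsg.indFun N θ') χ = 1 := by
      rw [frobenius_reciprocity N θ' (char_isClassFunction (isCharacter_of_isIrr hχ)), hres,
        classInner_isIrr_self hθ'i]
    rw [hind, classInner_smul_left, classInner_sum_left] at hin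
    by_cases hχC : χ ∈ C
    · have := (hprop χ hχC).2
      rw [hres, classInner_isIrr_self hθ'i] at this
      exact_mod_cast this.symm
    · rw [Finset.sum_eq_zero fun ψ hψ =>
        classInner_isIrr_ne (hC ψ hψ) hχ fun h => hχC (h ▸ hψ), mul_zero] at hin
      exact absurd hin zero_ne_one

end Cfsg.Agent.OddChar.Clifford
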