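import Cfsg.Agent.S1496
import Cfsg.Agent.S1510
import Cfsg.Agent.S1512
import Cfsg.Agent.OddChar.CliffordInd
import Cfsg.Agent.OddChar.Constituent

/-!
# `L = K ⋊ W₁` with all non-identity elements of `W₁` having the same fixed subgroup in `K`
-/

set_option linter.style.haveILetI false
set_option linter.unusedSectionVars false

namespace Cfsg.Agent.OddChar.PrimeFrob

open Cfsg.Agent.Characters

universe u

variable {L : Type u} [Group L] [Fintype L]

/-- The hypotheses shared by the prime Frobenius statements. -/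
structure Setup (K W₁ W₂ : Subgroup L) : Prop where
  inf : K ⊓ W₁ = ⊥
  sup : K ⊔ W₁ = ⊤
  ne₁ : W₁ ≠ ⊥
  cyc₁ : IsCyclic W₁
  hall : Nat.Coprime (Nat.card W₁) W₁.index
  ne₂ : W₂ ≠ ⊥
  cyc₂ : IsCyclic W₂
  le : W₂ ≤ K
  cent : ∀ x ∈ W₁, x ≠ 1 → K ⊓ Subgroup.centralizer ({x} : Set L) = W₂
  odd : Odd (Nat.card ↥(W₁ ⊔ W₂))

variable {K W₁ W₂ : Subgroup L} [hK : K.Normal] (h : Setup K W₁ W₂)

/-- `θ` is invariant under `g`. -/
def Fix (K : Subgroup L) [hK : K.Normal] (θ : K → ℂ) (g : L) : Prop :=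
  (fun k : K => θ ⟨g * k * g⁻¹, hK.conj_mem (k : L) k.2 g⟩) = θ

omit [Fintype L] in
theorem fix_iff (θ : K → ℂ) (g : L) :
    Fix K θ g ↔ θ ∘ (MulAut.conjNormal g : MulAut K) = θ := Iff.rfl

omit [Fintype L] in
theorem fix_one (θ : K → ℂ) : Fix K θ 1 := funext fun k => congrArg θ (Subtype.ext (by simp))

omit [Fintype L] in
theorem fix_mul {θ : K → ℂ} {g g' : L} (hg : Fix K θ g) (hg' : Fix K θ g') :
    Fix K θ (g * g') := by
  rw [fix_iff] at hg hg' ⊢
  funext k
  simp only [Function.comp_apply, map_mul, MulAut.mul_apply]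
  exact (congrFun hg _).trans (congrFun hg' k)

omit [Fintype L] in
theorem fix_pow {θ : K → ℂ} {g : L} (hg : Fix K θ g) (n : ℕ) : Fix K θ (g ^ n) := by
  induction n with
  | zero => rw [pow_zero]; exact fix_one θ
  | succ n ih => rw [pow_succ]; exact fix_mul ih hg

include h

theorem isComplement : K.IsComplement' W₁ := Subgroup.isComplement'_of_disjoint_and_mul_eq_univ
  (disjoint_iff.2 h.inf) (by rw [← Subgroup.normal_mul, h.sup, Subgroup.coe_top])

theorem coprime : Nat.Coprime (Nat.card W₁) (Nat.card K) := by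
  have := h.hall
  rwa [(isComplement h).index_eq_card] at this

theorem index_eq : K.index = Nat.card W₁ := (isComplement h).symm.index_eq_card

theorem exists_factor (g : L) : ∃ k ∈ K, ∃ w ∈ W₁, g = k * w := by
  have hm : g ∈ K ⊔ W₁ := by rw [h.sup]; trivial
  obtain ⟨k, hk, w, hw, e⟩ := Subgroup.mem_sup_of_normal_left.1 hm
  exact ⟨k, hk, w, hw, e.symm⟩

theorem commutator_mem (x y : L) : x * y * x⁻¹ * y⁻¹ ∈ K := by
  obtain ⟨k, hk, w, hw, rfl⟩ := exists_factor h x
  obtain ⟨k', hk', w', hw', rfl⟩ := exists_factor h y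
  haveI := h.cyc₁
  have hc : w * w' = w' * w :=
    congrArg Subtype.val (IsCyclic.commGroup.mul_comm (⟨w, hw⟩ : W₁) ⟨w', hw'⟩)
  rw [← QuotientGroup.eq_one_iff]
  have hq : ∀ c ∈ K, QuotientGroup.mk' K c = 1 := fun c hc => (QuotientGroup.eq_one_iff c).2 hc
  show QuotientGroup.mk' K _ = 1
  have hq2 := congrArg (QuotientGroup.mk' K) hc
  simp only [map_mul] at hq2
  simp only [map_mul, map_inv, hq k hk, hq k' hk', one_mul, hq2, mul_inv_cancel_right,
    mul_inv_cancel]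

theorem hC_pow {x : L} (hx : x ∈ W₁) :
    ∀ y ∈ Subgroup.zpowers x, y ≠ 1 → K ⊓ Subgroup.centralizer ({y} : Set L) = W₂ :=
  fun y hy => h.cent y ((Subgroup.zpowers_le.2 hx) hy)

/-- Exactly `|W₂|` classes of `K` are fixed by a non-identity element of `W₁`. -/
theorem card_fixed_classes {x : L} (hx : x ∈ W₁) (hx1 : x ≠ 1) :
    Nat.card {C : ConjClasses K //
      ConjClasses.map (MulEquiv.toMonoidHom ((MulAut.conjNormal x : MulAut K))) C = C} =
      Nat.card W₂ := by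
  classical
  have hco : Nat.Coprime (orderOf x) (Nat.card K) :=
    (coprime h).coprime_dvd_left (Subgroup.orderOf_dvd_natCard _ hx)
  refine le_antisymm (Cfsg.Agent.S1512.result K W₂ x hx1 hco (hC_pow h hx)) ?_
  have hcomm : ∀ w ∈ W₂, w * x = x * w := fun w hw => by
    rw [← h.cent x hx hx1] at hw
    exact Subgroup.mem_centralizer_singleton_iff.1 hw.2
  refine Nat.card_le_card_of_injective (fun w : W₂ =>
    (⟨ConjClasses.mk ⟨(w : L), h.le w.2⟩, ?_⟩ : {C : ConjClasses K //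
      ConjClasses.map (MulEquiv.toMonoidHom ((MulAut.conjNormal x : MulAut K))) C = C})) ?_
  · show ConjClasses.mk ((MulAut.conjNormal x : MulAut K) ⟨(w : L), h.le w.2⟩) = _
    congr 1
    refine Subtype.ext ?_
    show x * (w : L) * x⁻¹ = w
    rw [← hcomm w w.2, mul_inv_cancel_right]
  · intro w w' e
    have e' := congrArg Subtype.val e
    simp only [ConjClasses.mk_eq_mk_iff_isConj] at e'
    obtain ⟨u, hu⟩ := isConj_iff.1 e'
    have e1 : (u : L) * w * (u : L)⁻¹ = w' := congrArg Subtype.val hu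
    set k : L := (u : L) with hk
    set H := K ⊓ Subgroup.centralizer ({(w : L)} : Set L) with hH
    have hxH : x ∈ Subgroup.normalizer (H : Set L) := by
      rw [Subgroup.mem_normalizer_iff]
      intro y
      simp only [hH, Subgroup.mem_inf, Subgroup.mem_centralizer_singleton_iff]
      refine and_congr ⟨fun hy => hK.conj_mem _ hy _, fun hy => ?_⟩ ?_
      · simpa [mul_assoc] using hK.conj_mem _ hy x⁻¹
      · have hw : x * w * x⁻¹ = (w : L) := by rw [← hcomm w w.2, mul_inv_cancel_right]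
        constructor <;> intro hy
        · conv_lhs => rw [← hw]
          conv_rhs => rw [← hw]
          rw [show x * y * x⁻¹ * (x * w * x⁻¹) = x * (y * w) * x⁻¹ by group, hy]
          group
        · apply mul_left_cancel (a := x)
          apply mul_right_cancel (b := x⁻¹)
          rw [show x * (y * w) * x⁻¹ = x * y * x⁻¹ * (x * w * x⁻¹) by group, hw, hy]
          conv_lhs => rw [← hw]
          group
    have hmem : k⁻¹ * (x * k * x⁻¹) ∈ H := by
      refine ⟨K.mul_mem (K.inv_mem u.2) (hK.conj_mem _ u.2 _),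
        Subgroup.mem_centralizer_singleton_iff.2 ?_⟩
      have e2 : x * k * x⁻¹ * w * (x * k * x⁻¹)⁻¹ = w' := by
        calc x * k * x⁻¹ * w * (x * k * x⁻¹)⁻¹ = x * k * (x⁻¹ * (w * x)) * k⁻¹ * x⁻¹ := by group
          _ = x * (k * w * k⁻¹) * x⁻¹ := by rw [hcomm w w.2]; group
          _ = w' := by rw [e1, ← hcomm w' w'.2, mul_inv_cancel_right]
      rw [← e1] at e2
      rw [mul_assoc, mul_inv_eq_iff_eq_mul.1 e2]
      group
    obtain ⟨a, ha, c, hc, hcx, hac⟩ := Cfsg.Agent.S1496.result H x hxH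
      (hco.coprime_dvd_right (Subgroup.card_dvd_of_le inf_le_left)) _ hmem
    have hord : (c * x) ^ orderOf x = 1 := by
      rw [← hac, show k⁻¹ * (x * k * x⁻¹) * x = k⁻¹ * x * k by group,
        show a * (k⁻¹ * x * k) * a⁻¹ = (a * k⁻¹) * x * (a * k⁻¹)⁻¹ by group, conj_pow,
        pow_orderOf_eq_one, mul_one, mul_inv_cancel]
    have hc1 : c = 1 := by
      rw [Commute.mul_pow hcx, pow_orderOf_eq_one, mul_one] at hord
      have h1 := orderOf_dvd_of_pow_eq_one hord
      have h2 : orderOf c ∣ Nat.card K := Subgroup.orderOf_dvd_natCard _ hc.1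
      exact orderOf_eq_one_iff.1 (Nat.eq_one_of_dvd_coprimes hco h1 h2)
    rw [hc1, one_mul] at hac
    have hm : k * a⁻¹ ∈ W₂ := by
      rw [← h.cent x hx hx1]
      refine ⟨K.mul_mem u.2 (K.inv_mem ha.1), Subgroup.mem_centralizer_singleton_iff.2 ?_⟩
      conv_lhs => rw [← hac]
      group
    have haw : a * (w : L) = w * a := Subgroup.mem_centralizer_singleton_iff.1 ha.2
    haveI := h.cyc₂
    have hcw : k * a⁻¹ * w = w * (k * a⁻¹) :=
      congrArg Subtype.val (IsCyclic.commGroup.mul_comm (⟨_, hm⟩ : W₂) w)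
    refine Subtype.ext ?_
    calc (w : L) = (k * a⁻¹) * w * (k * a⁻¹)⁻¹ := by rw [hcw, mul_inv_cancel_right]
      _ = k * (a⁻¹ * (w * a)) * k⁻¹ := by group
      _ = w' := by rw [← haw, inv_mul_cancel_left, e1]

/-- Exactly `|W₂|` irreducible characters of `K` are fixed by a non-identity element of `W₁`. -/
theorem card_fix {x : L} (hx : x ∈ W₁) (hx1 : x ≠ 1) :
    Nat.card {θ : Cfsg.IrrCharacter K // Fix K (θ : K → ℂ) x} = Nat.card W₂ :=
  (Cfsg.Agent.S0173.result (MulAut.conjNormal x : MulAut K)).symm.trans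
    (card_fixed_classes h hx hx1)

/-- An irreducible character of `K` fixed by one non-identity element of `W₁` is fixed by `L`. -/
theorem fix_all {θ : K → ℂ} (hθ : Cfsg.IsIrrCharacter K θ) {x : L} (hx : x ∈ W₁) (hx1 : x ≠ 1)
    (hf : Fix K θ x) {g : L} (hg : g ∈ W₁) : Fix K θ g := by
  classical
  haveI := h.cyc₁
  obtain ⟨z, hz⟩ := IsCyclic.exists_monoid_generator (α := W₁)
  obtain ⟨n, hn⟩ := Submonoid.mem_powers_iff _ _ |>.1 (hz ⟨x, hx⟩)
  obtain ⟨m, hm⟩ := Submonoid.mem_powers_iff _ _ |>.1 (hz ⟨g, hg⟩)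
  have hn' : (z : L) ^ n = x := congrArg Subtype.val hn
  have hm' : (z : L) ^ m = g := congrArg Subtype.val hm
  have hz1 : (z : L) ≠ 1 := fun e => hx1 (by rw [← hn', e, one_pow])
  have hsub : {t : Cfsg.IrrCharacter K | Fix K (t : K → ℂ) z} ⊆
      {t : Cfsg.IrrCharacter K | Fix K (t : K → ℂ) x} := fun t ht => by
    rw [Set.mem_ofPred_eq, ← hn']; exact fix_pow ht n
  have heq := Set.eq_of_subset_of_ncard_le hsub (le_of_eq (by
    rw [← Nat.card_coe_set_eq, ← Nat.card_coe_set_eq]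
    exact (card_fix h hx hx1).trans (card_fix h z.2 hz1).symm)) (Set.toFinite _)
  have hfz : (⟨θ, hθ⟩ : Cfsg.IrrCharacter K) ∈
      {t : Cfsg.IrrCharacter K | Fix K (t : K → ℂ) z} := by rw [heq]; exact hf
  rw [← hm']; exact fix_pow hfz m

theorem card_fix_all :
    Nat.card {θ : Cfsg.IrrCharacter K // ∀ g ∈ W₁, Fix K (θ : K → ℂ) g} = Nat.card W₂ := by
  obtain ⟨x, hx, hx1⟩ : ∃ x, x ∈ W₁ ∧ x ≠ 1 := by
    obtain ⟨x, hx⟩ := Subgroup.ne_bot_iff_exists_ne_one.1 h.ne₁
    exact ⟨x, x.2, fun e => hx (Subtype.ext e)⟩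
  rw [← card_fix h hx hx1]
  exact Nat.card_congr (Equiv.subtypeEquivRight fun θ =>
    ⟨fun hf => hf x hx, fun hf g hg => fix_all h θ.2 hx hx1 hf hg⟩)

theorem fix_of_mem {θ : K → ℂ} (hθ : Cfsg.IsIrrCharacter K θ) {k : L} (hk : k ∈ K) :
    Fix K θ k :=
  funext fun m => char_isClassFunction (isCharacter_of_isIrr hθ) m ⟨k, hk⟩

theorem irr_of_not_fix {θ : K → ℂ} (hθ : Cfsg.IsIrrCharacter K θ)
    (hnf : ∃ x ∈ W₁, ¬ Fix K θ x) : Cfsg.IsIrrCharacter L (Cfsg.indFun K θ) := by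
  classical
  have hT : ∀ g : L, g ∈ K ↔ ∀ m : K, θ ⟨g * m * g⁻¹, hK.conj_mem m m.2 g⟩ = θ m := by
    refine fun g => ⟨fun hg m => congrFun (fix_of_mem h hθ hg) m, fun hg => ?_⟩
    obtain ⟨k, hk, w, hw, rfl⟩ := exists_factor h g
    by_cases hw1 : w = 1
    · rw [hw1, mul_one]; exact hk
    · exfalso
      have hf : Fix K θ w := by
        have := fix_mul (fix_of_mem h hθ (K.inv_mem hk)) (show Fix K θ (k * w) from funext hg)
        rwa [inv_mul_cancel_left] at this
      obtain ⟨x, hx, hnx⟩ := hnf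
      exact hnx (fix_all h hθ hw hw1 hf hx)
  obtain ⟨e, C, he, hC, hcard, hind, -, -⟩ := Clifford.decompose_induced K K hθ hT
    fun x hx y hy => K.mul_mem (K.mul_mem (K.mul_mem hx hy) (K.inv_mem hx)) (K.inv_mem hy)
  rw [Subgroup.relIndex_self] at hcard
  obtain ⟨he', hc1⟩ := mul_eq_one.1 hcard
  have he1 : e = 1 := by simpa using he'
  obtain ⟨χ, rfl⟩ := Finset.card_eq_one.1 hc1
  rw [hind, he1, Finset.sum_singleton, Nat.cast_one, one_smul]
  exact hC χ (Finset.mem_singleton_self χ)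

theorem decompose_fix {θ : K → ℂ} (hθ : Cfsg.IsIrrCharacter K θ)
    (hf : ∀ x ∈ W₁, Fix K θ x) :
    ∃ C : Finset (L → ℂ), C.card = Nat.card W₁ ∧ (∀ μ ∈ C, Cfsg.IsIrrCharacter L μ) ∧
      Cfsg.indFun K θ = ∑ μ ∈ C, μ := by
  classical
  have hT : ∀ g : L, g ∈ (⊤ : Subgroup L) ↔
      ∀ m : K, θ ⟨g * m * g⁻¹, hK.conj_mem m m.2 g⟩ = θ m := by
    refine fun g => ⟨fun _ m => ?_, fun _ => trivial⟩
    obtain ⟨k, hk, w, hw, rfl⟩ := exists_factor h g
    exact congrFun (fix_mul (fix_of_mem h hθ hk) (hf w hw)) m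
  obtain ⟨e, C, -, hC, hcard, hind, -, hcop⟩ := Clifford.decompose_induced K ⊤ hθ hT
    fun x _ y _ => commutator_mem h x y
  rw [Subgroup.relIndex_top_right, index_eq h] at hcard hcop
  have he1 := hcop (coprime h).symm
  rw [he1, one_pow, one_mul] at hcard
  exact ⟨C, hcard, hC, by rw [hind, he1, Nat.cast_one, one_smul]⟩

end Cfsg.Agent.OddChar.PrimeFrob
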