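import Cfsg.Agent.OddChar.PrimeFrobBasic
import Cfsg.Agent.OddChar.CyclicTI.Family
import Cfsg.Agent.OddChar.CyclicTI.Rigid
import Cfsg.Agent.OddChar.CyclicTI.Duals

/-!
# The irreducible characters of `L = K ⋊ W₁` not vanishing off `K`
-/

set_option linter.style.haveILetI false
set_option linter.unusedSectionVars false

namespace Cfsg.Agent.OddChar.PrimeFrob

open Cfsg.Agent.Characters CyclicTI
open Cfsg.Agent.CharTheory.IndBasic (extendByZero_of_notMem)
open scoped ComplexConjugate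

universe u

variable {L : Type u} [Group L] [Fintype L]
  {K W₁ W₂ : Subgroup L} [hK : K.Normal] (h : Setup K W₁ W₂)

include h

theorem cyclicTI : Cfsg.IsSelfNormalizingCyclic W₁ W₂ :=
  Cfsg.Agent.S1510.result K W₁ W₂ h.inf h.sup h.ne₁ h.cyc₁ h.hall h.ne₂ h.cyc₂ h.le h.cent h.odd

theorem card_sup : Nat.card ↥(W₁ ⊔ W₂) = Nat.card W₁ * Nat.card W₂ := by
  rw [← Nat.card_prod]
  exact (Nat.card_congr (split_of (cyclicTI h)).prodEquiv.toEquiv).symm

theorem exists_mul' (w : ↥(W₁ ⊔ W₂)) : ∃ a b : ↥(W₁ ⊔ W₂),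
    (a : L) ∈ W₁ ∧ (b : L) ∈ W₂ ∧ w = a * b := (split_of (cyclicTI h)).exists_mul w

theorem mem_W₂_of_mem_K {w : L} (hw : w ∈ W₁ ⊔ W₂) (hwK : w ∈ K) : w ∈ W₂ := by
  obtain ⟨a, b, ha, hb, hab⟩ := exists_mul' h ⟨w, hw⟩
  have e : w = (a : L) * b := congrArg Subtype.val hab
  have haK : (a : L) ∈ K := by
    have := K.mul_mem hwK (K.inv_mem (h.le hb))
    rwa [e, mul_inv_cancel_right] at this
  have : (a : L) ∈ K ⊓ W₁ := ⟨haK, ha⟩
  rw [h.inf, Subgroup.mem_bot] at this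
  rw [e, this, one_mul]; exact hb

/-- The projection onto `W₁` with kernel `K`. -/
noncomputable def proj : L →* W₁ :=
  (isComplement h).symm.QuotientMulEquiv.toMonoidHom.comp (QuotientGroup.mk' K)

theorem proj_apply_mem (w : W₁) : proj h (w : L) = w := by
  show (isComplement h).symm.QuotientMulEquiv (QuotientGroup.mk' K (w : L)) = w
  rw [← MulEquiv.eq_symm_apply]
  rfl

theorem proj_of_mem {k : L} (hk : k ∈ K) : proj h k = 1 := by
  show (isComplement h).symm.QuotientMulEquiv (QuotientGroup.mk' K k) = 1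
  rw [QuotientGroup.mk'_apply, (QuotientGroup.eq_one_iff k).2 hk, map_one]

/-- The linear character of `L` extending a character of `W` that is trivial on `W₂`. -/
noncomputable def lam (φ : ↥(W₁ ⊔ W₂) →* ℂˣ) : L →* ℂˣ :=
  (φ.comp (Subgroup.inclusion le_sup_left)).comp (proj h)

theorem lam_of_mem {φ : ↥(W₁ ⊔ W₂) →* ℂˣ} {k : L} (hk : k ∈ K) : lam h φ k = 1 := by
  simp [lam, proj_of_mem h hk]

theorem lam_apply {φ : ↥(W₁ ⊔ W₂) →* ℂˣ} (hφ : IsLeft φ) (w : ↥(W₁ ⊔ W₂)) :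
    lam h φ (w : L) = φ w := by
  obtain ⟨a, b, ha, hb, rfl⟩ := exists_mul' h w
  rw [Subgroup.coe_mul, map_mul, map_mul, lam_of_mem h (h.le hb), mul_one, hφ b hb, mul_one]
  show φ (Subgroup.inclusion le_sup_left (proj h (a : L))) = φ a
  rw [show proj h (a : L) = ⟨(a : L), ha⟩ from proj_apply_mem h ⟨a, ha⟩]
  rfl

theorem notMem_W₂_of {a b : ↥(W₁ ⊔ W₂)} (ha : (a : L) ∈ W₁) (hb : (b : L) ∈ W₂)
    (hw : ((a * b : ↥(W₁ ⊔ W₂)) : L) ∉ W₂) : (a : L) ≠ 1 := fun e =>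
  hw (by rw [Subgroup.coe_mul, e, one_mul]; exact hb)

/-- An element of `W - W₂` only fuses into `W` through `W`. -/
theorem mem_of_conj_mem {w : L} (hw : w ∈ W₁ ⊔ W₂) (hw₂ : w ∉ W₂) {x : L}
    (hx : x⁻¹ * w * x ∈ W₁ ⊔ W₂) : x ∈ W₁ ⊔ W₂ := by
  haveI := h.cyc₁
  obtain ⟨a, b, ha, hb, hab⟩ := exists_mul' h ⟨w, hw⟩
  have ea : w = (a : L) * b := congrArg Subtype.val hab
  obtain ⟨a', b', ha', hb', hab'⟩ := exists_mul' h ⟨_, hx⟩
  have ea' : x⁻¹ * w * x = (a' : L) * b' := congrArg Subtype.val hab'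
  have ha1 : (a : L) ≠ 1 := fun e => hw₂ (by rw [ea, e, one_mul]; exact hb)
  have hq : (a' : L) = a := by
    have h1 := congrArg (proj h) ea'
    rw [ea] at h1
    simp only [map_mul, map_inv, proj_of_mem h (h.le hb), proj_of_mem h (h.le hb'), mul_one] at h1
    rw [IsCyclic.commGroup.mul_comm (proj h x)⁻¹ (proj h a), mul_assoc, inv_mul_cancel, mul_one,
      proj_apply_mem h ⟨a, ha⟩, proj_apply_mem h ⟨a', ha'⟩] at h1
    exact (congrArg Subtype.val h1).symm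
  rw [hq] at ea'
  have hcop : Nat.Coprime (Nat.card W₁) (Nat.card W₂) :=
    (coprime h).coprime_dvd_right (Subgroup.card_dvd_of_le h.le)
  obtain ⟨n, hn1, hn0⟩ := Nat.chineseRemainder hcop 1 0
  have hpow : ∀ c ∈ W₂, ((a : L) * c) ^ n = a := fun c hc => by
    have h1 : (a : L) ^ n = a := by
      conv_rhs => rw [← pow_one (a : L)]
      exact pow_eq_pow_iff_modEq.2 (hn1.of_dvd (Subgroup.orderOf_dvd_natCard _ ha))
    have h2 : c ^ n = 1 := orderOf_dvd_iff_pow_eq_one.1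
      ((Subgroup.orderOf_dvd_natCard _ hc).trans (Nat.modEq_zero_iff_dvd.1 hn0))
    rw [(show Commute (a : L) c from (split_of (cyclicTI h)).comm a ha c hc).mul_pow, h1, h2,
      mul_one]
  have h4 : x⁻¹ * (a : L) * x = a := by
    have := congrArg (· ^ n) ea'
    have e2 : (x⁻¹ * w * x) ^ n = x⁻¹ * w ^ n * x := by
      conv_lhs => rw [show x⁻¹ * w * x = x⁻¹ * w * x⁻¹⁻¹ by rw [inv_inv]]
      rw [conj_pow, inv_inv]
    rw [e2, ea, hpow _ hb, hpow _ hb'] at this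
    exact this
  have hxa : x * a = a * x := by
    conv_lhs => rw [← h4]
    group
  obtain ⟨k, hk, v, hv, rfl⟩ := exists_factor h x
  have hva : v * a = (a : L) * v :=
    congrArg Subtype.val (IsCyclic.commGroup.mul_comm (⟨v, hv⟩ : W₁) ⟨a, ha⟩)
  have hka : k * a = (a : L) * k := by
    rw [mul_assoc, hva, ← mul_assoc, ← mul_assoc] at hxa
    exact mul_right_cancel hxa
  have hkm : k ∈ K ⊓ Subgroup.centralizer ({(a : L)} : Set L) :=
    ⟨hk, Subgroup.mem_centralizer_singleton_iff.2 hka⟩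
  rw [h.cent a ha ha1] at hkm
  exact mul_mem (Subgroup.mem_sup_right hkm) (Subgroup.mem_sup_left hv)

/-- Every element outside `K` is conjugate to an element of `W - W₂`. -/
theorem exists_conj_mem {g : L} (hg : g ∉ K) :
    ∃ x : L, ∃ w : ↥(W₁ ⊔ W₂), (w : L) ∉ W₂ ∧ x * g * x⁻¹ = w := by
  obtain ⟨k, hk, a, ha, rfl⟩ := exists_factor h g
  have ha1 : a ≠ 1 := fun e => hg (by rw [e, mul_one]; exact hk)
  obtain ⟨x, -, c, hc, hca, hx⟩ := Cfsg.Agent.S1496.result K a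
    (by rw [Subgroup.normalizer_eq_top_iff.2 hK]; trivial)
    ((coprime h).coprime_dvd_left (Subgroup.orderOf_dvd_natCard _ ha)) k hk
  have hc2 : c ∈ W₂ := by
    rw [← h.cent a ha ha1]
    exact ⟨hc, Subgroup.mem_centralizer_singleton_iff.2 hca⟩
  refine ⟨x, ⟨c * a, mul_mem (Subgroup.mem_sup_right hc2) (Subgroup.mem_sup_left ha)⟩, ?_, hx⟩
  show c * a ∉ W₂
  intro hm
  apply ha1
  have := W₂.mul_mem (W₂.inv_mem hc2) hm
  rw [inv_mul_cancel_left] at this
  have hd : a ∈ K ⊓ W₁ := ⟨h.le this, ha⟩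
  rwa [h.inf, Subgroup.mem_bot] at hd

theorem indFun_apply_of_notMem_W₂ (β : ↥(W₁ ⊔ W₂) → ℂ) (w : ↥(W₁ ⊔ W₂)) (hw : (w : L) ∉ W₂) :
    Cfsg.indFun (W₁ ⊔ W₂) β w = β w := by
  classical
  haveI := Fintype.ofFinite ↥(W₁ ⊔ W₂)
  rw [Induce.indFun_eq_sum_of_subset _ (W₁ ⊔ W₂) β (w : L) fun x hx =>
    mem_of_conj_mem h w.2 hw (by_contra fun hn => hx (extendByZero_of_notMem _ β hn))]
  have : ∀ x : ↥(W₁ ⊔ W₂), Cfsg.extendByZero (W₁ ⊔ W₂) β ((x : L)⁻¹ * w * x) = β w := fun x => by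
    have e : (x : L)⁻¹ * w * x = ((w : ↥(W₁ ⊔ W₂)) : L) := by
      rw [mul_assoc, show (w : L) * x = x * w from
        congrArg Subtype.val (comm_of (cyclicTI h) w x), inv_mul_cancel_left]
    rw [e]
    exact Subtype.val_injective.extend_apply β 0 w
  simp only [this]
  rw [Finset.sum_const, Finset.card_univ, nsmul_eq_mul, ← Nat.card_eq_fintype_card, ← mul_assoc,
    inv_mul_cancel₀ natCard_ne_zero, one_mul]

variable {χ : (↥(W₁ ⊔ W₂) →* ℂˣ) → (L → ℂ)} (hχ : Cfsg.IsCyclicTIFamily W₁ W₂ χ)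

include hχ

theorem family_left {φ : ↥(W₁ ⊔ W₂) →* ℂˣ} (hφ : IsLeft φ) :
    χ φ = fun g => (lam h φ g : ℂ) := by
  refine (eq_family (cyclicTI h) h.odd hχ (Or.inl (isIrrCharacter_linear _)) φ ?_).symm
  intro w _ _
  rw [lam_apply h hφ]

theorem family_mul {φ : ↥(W₁ ⊔ W₂) →* ℂˣ} (hφ : IsLeft φ) (ψ : ↥(W₁ ⊔ W₂) →* ℂˣ) :
    χ (φ * ψ) = fun g => (lam h φ g : ℂ) * χ ψ g := by
  refine (eq_family (cyclicTI h) h.odd hχ ?_ _ ?_).symm
  · rcases hχ.irr_or_neg ψ with hi | hi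
    · exact Or.inl (isIrrCharacter_mul_linear hi _)
    · refine Or.inr ?_
      have := isIrrCharacter_mul_linear hi (lam h φ)
      convert this using 1
      funext g
      simp only [Pi.neg_apply]
      ring
  · intro w h1 h2
    rw [lam_apply h hφ, hχ.eq_on ψ w h1 h2, MonoidHom.mul_apply, Units.val_mul]

theorem family_apply_one {φ : ↥(W₁ ⊔ W₂) →* ℂˣ} (hφ : IsLeft φ) (ψ : ↥(W₁ ⊔ W₂) →* ℂˣ) :
    χ (φ * ψ) 1 = χ ψ 1 := by
  rw [family_mul h hχ hφ ψ]; simp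

theorem exists_notMem_K_ne_zero (ω : ↥(W₁ ⊔ W₂) →* ℂˣ) : ∃ g, g ∉ K ∧ χ ω g ≠ 0 := by
  obtain ⟨a, ha, ha1⟩ := CyclicTI.exists_mem_ne_one h.ne₁
  obtain ⟨b, hb, hb1⟩ := CyclicTI.exists_mem_ne_one h.ne₂
  have hw : a * b ∈ W₁ ⊔ W₂ := Subgroup.mul_mem_sup ha hb
  have hdisj := (split_of (cyclicTI h)).disj
  have h1 : a * b ∉ W₁ := fun e => hb1 (by
    have : b ∈ W₁ ⊓ W₂ := ⟨by simpa using W₁.mul_mem (W₁.inv_mem ha) e, hb⟩
    rwa [hdisj, Subgroup.mem_bot] at this)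
  have h2 : a * b ∉ W₂ := fun e => ha1 (by
    have : a ∈ W₁ ⊓ W₂ := ⟨ha, by simpa using W₂.mul_mem e (W₂.inv_mem hb)⟩
    rwa [hdisj, Subgroup.mem_bot] at this)
  exact ⟨a * b, fun e => h2 (mem_W₂_of_mem_K h hw e),
    by rw [hχ.eq_on ω ⟨_, hw⟩ h1 h2]; exact Units.ne_zero _⟩

theorem family_injective : Function.Injective χ := fun ω ω' e => by
  classical
  have h1 := hχ.orthonormal ω ω'
  rw [← e, hχ.orthonormal ω ω, if_pos rfl] at h1
  by_contra hne
  rw [if_neg hne] at h1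
  exact one_ne_zero h1

open Classical in
/-- The irreducible character underlying the signed character `χ ω`. -/
noncomputable def absIrr (ω : ↥(W₁ ⊔ W₂) →* ℂˣ) : Cfsg.IrrCharacter L :=
  if hi : Cfsg.IsIrrCharacter L (χ ω) then ⟨χ ω, hi⟩
  else ⟨-χ ω, (hχ.irr_or_neg ω).resolve_left hi⟩

omit h in
theorem absIrr_cases (ω : ↥(W₁ ⊔ W₂) →* ℂˣ) :
    (absIrr hχ ω : L → ℂ) = χ ω ∨ (absIrr hχ ω : L → ℂ) = -χ ω := by
  unfold absIrr; split_ifs <;> simp

omit h in
theorem absIrr_injective : Function.Injective (absIrr hχ) := fun ω ω' e => by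
  classical
  have e' := congrArg Subtype.val e
  by_contra hne
  have h0 := hχ.orthonormal ω ω'
  rw [if_neg hne] at h0
  have h1 := hχ.orthonormal ω ω
  rw [if_pos rfl] at h1
  rcases absIrr_cases hχ ω with a | a <;> rcases absIrr_cases hχ ω' with b | b <;>
    rw [a, b] at e'
  · rw [e'] at h0 h1
    exact one_ne_zero (h1.symm.trans h0)
  · rw [show χ ω' = -χ ω by rw [e', neg_neg]] at h0
    simp [classInner_def] at h0 h1
    simp [h0] at h1
  · rw [show χ ω' = -χ ω from e'.symm] at h0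
    simp [classInner_def] at h0 h1
    simp [h0] at h1
  · rw [neg_inj] at e'
    rw [e'] at h0 h1
    exact one_ne_zero (h1.symm.trans h0)

/-- The irreducible characters not vanishing off `K` are the `± χ ω`. -/
theorem exists_absIrr {θ : Cfsg.IrrCharacter L} {g : L} (hg : g ∉ K)
    (hne : (θ : L → ℂ) g ≠ 0) : ∃ ω, absIrr hχ ω = θ := by
  classical
  haveI := Fintype.ofFinite (Cfsg.IrrCharacter L)
  haveI := Fintype.ofFinite (Cfsg.IrrCharacter K)
  haveI := Fintype.ofFinite (↥(W₁ ⊔ W₂) →* ℂˣ)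
  haveI := Fintype.ofFinite K
  haveI := Fintype.ofFinite {θ : Cfsg.IrrCharacter K // ∀ x ∈ W₁, Fix K (θ : K → ℂ) x}
  choose C hCc hCi hCs using fun t : {θ : Cfsg.IrrCharacter K // ∀ x ∈ W₁, Fix K (θ : K → ℂ) x} =>
    decompose_fix h t.1.2 t.2
  set B := Finset.univ.filter fun θ : Cfsg.IrrCharacter L => ∃ g, g ∉ K ∧ (θ : L → ℂ) g ≠ 0
    with hB
  have hsub : B.image Subtype.val ⊆ Finset.univ.biUnion C := by
    intro f hf
    simp only [hB, Finset.mem_image, Finset.mem_filter, Finset.mem_univ, true_and] at hf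
    obtain ⟨θ', ⟨g', hg', hne'⟩, rfl⟩ := hf
    have hc := irr_isCharacter θ'
    obtain ⟨t, ht, htn⟩ := Constituent.exists_constituent (isCharacter_restrict K hc)
      (by simpa using irr_one_ne_zero θ'.2)
    have hrec : Cfsg.classInner (θ' : L → ℂ) (Cfsg.indFun K t) ≠ 0 := by
      rw [frobenius_reciprocity' K t (char_isClassFunction hc)]
      exact htn
    by_cases hf : ∀ x ∈ W₁, Fix K t x
    · refine Finset.mem_biUnion.2 ⟨⟨⟨t, ht⟩, hf⟩, Finset.mem_univ _, ?_⟩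
      by_contra hn
      apply hrec
      rw [show Cfsg.indFun K t = ∑ μ ∈ C ⟨⟨t, ht⟩, hf⟩, μ from hCs ⟨⟨t, ht⟩, hf⟩,
        classInner_sum_right]
      exact Finset.sum_eq_zero fun μ hμ =>
        classInner_isIrr_ne θ'.2 (hCi _ μ hμ) fun e => hn (e ▸ hμ)
    · push Not at hf
      exfalso
      apply hne'
      have hi := irr_of_not_fix h ht hf
      have : (θ' : L → ℂ) = Cfsg.indFun K t :=
        by_contra fun hn => hrec (classInner_isIrr_ne θ'.2 hi hn)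
      rw [this]
      exact Induce.indFun_apply_normal_notMem K t hg'
  have hcardB : B.card ≤ Nat.card W₂ * Nat.card W₁ := by
    rw [← Finset.card_image_of_injective B Subtype.val_injective]
    refine ((Finset.card_le_card hsub).trans Finset.card_biUnion_le).trans (le_of_eq ?_)
    rw [Finset.sum_congr rfl fun t _ => hCc t, Finset.sum_const, Finset.card_univ,
      ← Nat.card_eq_fintype_card, card_fix_all h, smul_eq_mul]
  have himg : Finset.univ.image (absIrr hχ) ⊆ B := by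
    intro t ht
    obtain ⟨ω, -, rfl⟩ := Finset.mem_image.1 ht
    obtain ⟨g', hg', hne'⟩ := exists_notMem_K_ne_zero h hχ ω
    refine Finset.mem_filter.2 ⟨Finset.mem_univ _, g', hg', ?_⟩
    rcases absIrr_cases hχ ω with e | e <;> rw [e] <;> simp [hne']
  have hcardI : (Finset.univ.image (absIrr hχ)).card = Nat.card W₁ * Nat.card W₂ := by
    rw [Finset.card_image_of_injective _ (absIrr_injective hχ), Finset.card_univ,
      ← Nat.card_eq_fintype_card, ← card_sup h]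
    exact card_dual fun a ha b hb =>
      congrArg Subtype.val (comm_of (cyclicTI h) ⟨a, ha⟩ ⟨b, hb⟩)
  have heq := Finset.eq_of_subset_of_card_le himg (by rw [hcardI, mul_comm]; exact hcardB)
  have hθ : θ ∈ Finset.univ.image (absIrr hχ) := by
    rw [heq]; exact Finset.mem_filter.2 ⟨Finset.mem_univ _, g, hg, hne⟩
  obtain ⟨ω, -, e⟩ := Finset.mem_image.1 hθ
  exact ⟨ω, e⟩

theorem family_right_const {ψ : ↥(W₁ ⊔ W₂) →* ℂˣ} (hψ : IsRight ψ) {a : ↥(W₁ ⊔ W₂)}
    (ha : (a : L) ∈ W₁) (ha1 : (a : L) ≠ 1) : χ ψ a = 1 := by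
  classical
  haveI := Fintype.ofFinite ↥(W₁ ⊔ W₂)
  haveI := Fintype.ofFinite (Cfsg.IrrCharacter L)
  haveI := Fintype.ofFinite (↥(W₁ ⊔ W₂) →* ℂˣ)
  haveI := Fintype.ofFinite W₂
  have haW2 : (a : L) ∉ W₂ := fun e => ha1 (by
    have : (a : L) ∈ W₁ ⊓ W₂ := ⟨ha, e⟩
    rwa [(split_of (cyclicTI h)).disj, Subgroup.mem_bot] at this)
  have haK : (a : L) ∉ K := fun e => haW2 (mem_W₂_of_mem_K h a.2 e)
  set R := Finset.univ.filter fun η : ↥(W₁ ⊔ W₂) →* ℂˣ => IsRight η with hR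
  set P := Finset.univ.filter fun η : ↥(W₁ ⊔ W₂) →* ℂˣ => IsLeft η with hP
  -- column orthogonality
  have key : ∀ c : ↥(W₁ ⊔ W₂), (c : L) ∈ W₂ → (c : L) ≠ 1 →
      ∑ η ∈ R, χ η a * conj (η c : ℂ) = 0 := by
    intro c hc hc1
    have hV1 : ((a * c : ↥(W₁ ⊔ W₂)) : L) ∉ W₁ := fun e => hc1 (by
      have : (c : L) ∈ W₁ ⊓ W₂ := ⟨by simpa using W₁.mul_mem (W₁.inv_mem ha) e, hc⟩
      rwa [(split_of (cyclicTI h)).disj, Subgroup.mem_bot] at this)
    have hV2 : ((a * c : ↥(W₁ ⊔ W₂)) : L) ∉ W₂ := fun e => haW2 (by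
      simpa using W₂.mul_mem e (W₂.inv_mem hc))
    have hnc : ¬ IsConj (a : L) ((a * c : ↥(W₁ ⊔ W₂)) : L) := by
      intro hcj
      obtain ⟨x, hx⟩ := isConj_iff.1 hcj
      have hcop : Nat.Coprime (orderOf (a : L)) (orderOf (c : L)) :=
        ((coprime h).coprime_dvd_left (Subgroup.orderOf_dvd_natCard _ ha)).coprime_dvd_right
          (Subgroup.orderOf_dvd_natCard _ (h.le hc))
      have ho : orderOf ((a : L) * c) = orderOf (a : L) * orderOf (c : L) :=
        (show Commute (a : L) c from (split_of (cyclicTI h)).comm a ha c hc)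
          |>.orderOf_mul_eq_mul_orderOf_of_coprime hcop
      rw [← Subgroup.coe_mul, ← hx, ← MulAut.conj_apply,
        MulEquiv.orderOf_eq] at ho
      have hp : 0 < orderOf (a : L) := orderOf_pos _
      exact hc1 (orderOf_eq_one_iff.1 (Nat.eq_of_mul_eq_mul_left hp (by rw [mul_one]; exact ho.symm)))
    have hso := second_orthogonality (a : L) ((a * c : ↥(W₁ ⊔ W₂)) : L)
    rw [if_neg hnc] at hso
    rw [← Finset.sum_subset (Finset.subset_univ (Finset.univ.image (absIrr hχ))) (fun θ _ hθ => by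
      have : (θ : L → ℂ) a = 0 := by
        by_contra hne
        obtain ⟨ω, e⟩ := exists_absIrr h hχ haK hne
        exact hθ (Finset.mem_image.2 ⟨ω, Finset.mem_univ _, e⟩)
      rw [this, zero_mul]), Finset.sum_image fun x _ y _ e => absIrr_injective hχ e] at hso
    have hterm : ∀ ω, (absIrr hχ ω : L → ℂ) a * conj ((absIrr hχ ω : L → ℂ) (a * c : ↥(W₁ ⊔ W₂))) =
        χ ω a * conj (ω (a * c) : ℂ) := by
      intro ω
      rw [← hχ.eq_on ω (a * c) hV1 hV2]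
      rcases absIrr_cases hχ ω with e | e <;> rw [e] <;> simp
    rw [Finset.sum_congr rfl fun ω _ => hterm ω] at hso
    have hsplit : ∑ ω : ↥(W₁ ⊔ W₂) →* ℂˣ, χ ω a * conj (ω (a * c) : ℂ) =
        ∑ p ∈ P ×ˢ R, χ (p.1 * p.2) a * conj ((p.1 * p.2) (a * c) : ℂ) := by
      refine (Finset.sum_bij (fun p _ => p.1 * p.2) (fun _ _ => Finset.mem_univ _) ?_ ?_
        fun _ _ => rfl).symm
      · intro p hp q hq e
        simp only [hP, hR, Finset.mem_product, Finset.mem_filter, Finset.mem_univ, true_and] at hp hq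
        obtain ⟨h1, h2⟩ := (split_of (cyclicTI h)).mul_inj hp.1 hq.1 hp.2 hq.2 e
        exact Prod.ext h1 h2
      · intro ω _
        obtain ⟨φ, η, hφ, hη, e⟩ := (split_of (cyclicTI h)).exists_split ω
        exact ⟨(φ, η), by simp [hP, hR, hφ, hη], e.symm⟩
    rw [hsplit, Finset.sum_product] at hso
    have hin : ∀ φ ∈ P, ∑ η ∈ R, χ (φ * η) a * conj ((φ * η) (a * c) : ℂ) =
        ∑ η ∈ R, χ η a * conj (η c : ℂ) := by
      intro φ hφ
      refine Finset.sum_congr rfl fun η hη => ?_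
      have hφ' : IsLeft φ := (Finset.mem_filter.1 hφ).2
      have hη' : IsRight η := (Finset.mem_filter.1 hη).2
      rw [family_mul h hχ hφ' η]
      simp only [lam_apply h hφ', MonoidHom.mul_apply, map_mul, Units.val_mul, hη' a ha,
        hφ' c hc, Units.val_one]
      have hn : (φ a : ℂ) * conj (φ a : ℂ) = 1 := by
        rw [Complex.mul_conj', linear_norm_eq_one]; norm_num
      simp only [map_one, one_mul, mul_one]
      linear_combination (χ η (a : L) * conj (η c : ℂ)) * hn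
    rw [Finset.sum_congr rfl hin, Finset.sum_const, nsmul_eq_mul, mul_eq_zero] at hso
    refine hso.resolve_left ?_
    rw [Nat.cast_eq_zero]
    exact (Finset.card_pos.2 ⟨1, Finset.mem_filter.2 ⟨Finset.mem_univ _, isLeft_one⟩⟩).ne'
  -- Fourier inversion on `W₂`
  set incl : W₂ →* ↥(W₁ ⊔ W₂) := Subgroup.inclusion le_sup_right with hincl
  have horth : ∀ η ∈ R, ∀ η₀ ∈ R, ∑ c : W₂, (η₀ (incl c) : ℂ) * conj (η (incl c) : ℂ) =
      if η₀ = η then (Nat.card W₂ : ℂ) else 0 := by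
    intro η hη η₀ hη₀
    have e : Cfsg.classInner (fun c : W₂ => ((η₀.comp incl) c : ℂ))
        (fun c : W₂ => ((η.comp incl) c : ℂ)) = if η₀ = η then 1 else 0 := by
      split_ifs with he
      · rw [he]; exact classInner_isIrr_self (isIrrCharacter_linear (η.comp incl))
      · refine classInner_isIrr_ne (isIrrCharacter_linear (η₀.comp incl))
          (isIrrCharacter_linear (η.comp incl)) fun e' => he (MonoidHom.ext fun w => ?_)
        obtain ⟨u, v, hu, hv, rfl⟩ := exists_mul' h w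
        rw [map_mul, map_mul, (Finset.mem_filter.1 hη₀).2 u hu, (Finset.mem_filter.1 hη).2 u hu,
          one_mul, one_mul]
        exact Units.ext (congrFun e' ⟨v, hv⟩)
    rw [classInner_def, inv_mul_eq_iff_eq_mul₀ natCard_ne_zero] at e
    refine e.trans ?_
    split_ifs <;> simp
  have hconst : ∀ η₀ ∈ R, χ η₀ a * (Nat.card W₂ : ℂ) = ∑ η ∈ R, χ η a := by
    intro η₀ hη₀
    have e2 : ∑ η ∈ R, χ η a * ∑ c : W₂, (η₀ (incl c) : ℂ) * conj (η (incl c) : ℂ) =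
        χ η₀ a * (Nat.card W₂ : ℂ) := by
      rw [Finset.sum_congr rfl fun η hη => by rw [horth η hη η₀ hη₀, mul_ite, mul_zero],
        Finset.sum_ite_eq, if_pos hη₀]
    rw [← e2]
    simp only [Finset.mul_sum]
    rw [Finset.sum_comm, Finset.sum_eq_single (1 : W₂)]
    · simp
    · intro c _ hc1
      rw [Finset.sum_congr rfl fun η _ => show χ η a * ((η₀ (incl c) : ℂ) * conj (η (incl c) : ℂ)) =
        (η₀ (incl c) : ℂ) * (χ η a * conj (η (incl c) : ℂ)) by ring, ← Finset.mul_sum,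
        key (incl c) c.2 fun e => hc1 (Subtype.ext e), mul_zero]
    · exact fun hn => absurd (Finset.mem_univ _) hn
  have h1R : (1 : ↥(W₁ ⊔ W₂) →* ℂˣ) ∈ R := Finset.mem_filter.2 ⟨Finset.mem_univ _, isRight_one⟩
  have e := (hconst ψ (Finset.mem_filter.2 ⟨Finset.mem_univ _, hψ⟩)).trans (hconst 1 h1R).symm
  rw [hχ.map_one] at e
  exact mul_right_cancel₀ natCard_ne_zero e

/-- `χ ω` extends `ω` on `W - W₂`. -/
theorem family_eq_on (ω : ↥(W₁ ⊔ W₂) →* ℂˣ) (w : ↥(W₁ ⊔ W₂)) (hw : (w : L) ∉ W₂) :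
    χ ω w = (ω w : ℂ) := by
  by_cases hw₁ : (w : L) ∈ W₁
  · obtain ⟨φ, ψ, hφ, hψ, rfl⟩ := (split_of (cyclicTI h)).exists_split ω
    rw [family_mul h hχ hφ ψ]
    simp only [lam_apply h hφ, MonoidHom.mul_apply, hψ w hw₁, mul_one]
    rw [family_right_const h hχ hψ hw₁ fun e => hw (e ▸ W₂.one_mem), mul_one]
  · exact hχ.eq_on ω w hw₁ hw

theorem family_one_congr (ω : ↥(W₁ ⊔ W₂) →* ℂˣ) :
    ∃ n : ℤ, χ ω 1 - 1 = n * (Nat.card W₁ : ℂ) := by
  classical
  haveI := Fintype.ofFinite W₁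
  obtain ⟨φ, ψ, hφ, hψ, rfl⟩ := (split_of (cyclicTI h)).exists_split ω
  rw [family_apply_one h hχ hφ ψ]
  have hgen : Cfsg.IsGeneralizedCharacter L (χ ψ) := Signed.IsSIrr.isGen (hχ.irr_or_neg ψ)
  obtain ⟨m, hm⟩ := classInner_gen_int (isGen_restrict W₁ hgen)
    (isGen_of_isCharacter (isCharacter_one (G := W₁)))
  rw [classInner_def, inv_mul_eq_iff_eq_mul₀ natCard_ne_zero] at hm
  simp only [map_one, mul_one] at hm
  rw [← Finset.add_sum_erase _ _ (Finset.mem_univ (1 : W₁)),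
    Finset.sum_congr rfl fun (x : W₁) hx => show χ ψ (x : L) = 1 from
      family_right_const h hχ hψ (a := ⟨(x : L), Subgroup.mem_sup_left x.2⟩) x.2
        fun e => Finset.ne_of_mem_erase hx (Subtype.ext e),
    Finset.sum_const, nsmul_eq_mul, mul_one, Finset.card_erase_of_mem (Finset.mem_univ _),
    Finset.card_univ, ← Nat.card_eq_fintype_card, Nat.cast_sub Nat.card_pos, Nat.cast_one,
    OneMemClass.coe_one] at hm
  exact ⟨m - 1, by push_cast; linear_combination hm⟩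

theorem indFun_sub_eq {ω ω' : ↥(W₁ ⊔ W₂) →* ℂˣ}
    (he : ∀ w : ↥(W₁ ⊔ W₂), (w : L) ∈ W₂ → ω w = ω' w) :
    Cfsg.indFun (W₁ ⊔ W₂) (fun w => (ω w : ℂ) - (ω' w : ℂ)) = χ ω - χ ω' := by
  funext g
  by_cases hg : g ∈ K
  · have hR : (χ ω - χ ω') g = 0 := by
      obtain ⟨φ, ψ, hφ, hψ, rfl⟩ := (split_of (cyclicTI h)).exists_split ω
      obtain ⟨φ', ψ', hφ', hψ', rfl⟩ := (split_of (cyclicTI h)).exists_split ω'
      have e : ψ = ψ' := MonoidHom.ext fun w => by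
        obtain ⟨u, v, hu, hv, rfl⟩ := exists_mul' h w
        have := he v hv
        simp only [MonoidHom.mul_apply, hφ v hv, hφ' v hv, one_mul] at this
        rw [map_mul, map_mul, hψ u hu, hψ' u hu, this]
      subst e
      simp [family_mul h hχ hφ, family_mul h hχ hφ', lam_of_mem h hg]
    rw [hR]
    refine Induce.indFun_eq_zero _ _ _ fun x => ?_
    by_cases hx : x⁻¹ * g * x ∈ W₁ ⊔ W₂
    · rw [show x⁻¹ * g * x = ((⟨_, hx⟩ : ↥(W₁ ⊔ W₂)) : L) from rfl, Cfsg.extendByZero,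
        Subtype.val_injective.extend_apply]
      rw [he ⟨_, hx⟩ (mem_W₂_of_mem_K h hx (by simpa using hK.conj_mem g hg x⁻¹)), sub_self]
    · exact extendByZero_of_notMem _ _ hx
  · obtain ⟨x, w, hw, e⟩ := exists_conj_mem h hg
    have hc1 := indFun_isClassFunction (W₁ ⊔ W₂) (fun w => (ω w : ℂ) - (ω' w : ℂ)) g x
    have hc2 : ∀ η, χ η (w : L) = χ η g := fun η => by
      rw [← e]; exact isGen_isClassFunction (Signed.IsSIrr.isGen (hχ.irr_or_neg η)) g x
    rw [← hc1, e, indFun_apply_of_notMem_W₂ h _ w hw, Pi.sub_apply, ← hc2, ← hc2,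
      family_eq_on h hχ ω w hw, family_eq_on h hχ ω' w hw]

theorem isIrr_iff_of_eq {ω ω' : ↥(W₁ ⊔ W₂) →* ℂˣ}
    (he : ∀ w : ↥(W₁ ⊔ W₂), (w : L) ∈ W₂ → ω w = ω' w) :
    Cfsg.IsIrrCharacter L (χ ω) ↔ Cfsg.IsIrrCharacter L (χ ω') := by
  have hdeg : χ ω 1 = χ ω' 1 := by
    have := congrFun (indFun_sub_eq h hχ he) 1
    rw [indFun_one] at this
    simp only [map_one, Units.val_one, sub_self, mul_zero, Pi.sub_apply] at this
    exact sub_eq_zero.1 this.symm
  have key : ∀ {a b : ↥(W₁ ⊔ W₂) →* ℂˣ}, χ a 1 = χ b 1 →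
      Cfsg.IsIrrCharacter L (χ a) → Cfsg.IsIrrCharacter L (χ b) := by
    intro a b hab ha
    refine (hχ.irr_or_neg b).resolve_right fun hb => ?_
    obtain ⟨n, hn, hn'⟩ := irr_one_pos ha
    obtain ⟨m, hm, hm'⟩ := irr_one_pos hb
    rw [Pi.neg_apply, ← hab, hn'] at hm'
    have : ((n + m : ℕ) : ℂ) = 0 := by push_cast; linear_combination -hm'
    have := Nat.cast_eq_zero.1 this
    omega
  exact ⟨key hdeg, key hdeg.symm⟩

end Cfsg.Agent.OddChar.PrimeFrob
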